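import Cfsg.Agent.Lib.CentralWeak.Tools

/-!
# A minimal offender on an abelian normal `p`-subgroup is quadratic and elementary modulo the kernel
-/

set_option autoImplicit false
set_option linter.unusedSectionVars false

namespace CfsgLib.CentralWeak

open Subgroup
open scoped commutatorElement

variable {G : Type*} [Group G] {p : ℕ}

/-- `|W / C_W(B)| ≤ |B / C_B(W)|`. -/
def Offends (W B : Subgroup G) : Prop :=
  Nat.card ↥(B ⊓ centralizer (W : Set G)) * Nat.card W ≤ Nat.card B * Nat.card ↥(W ⊓ centralizer (B : Set G))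

/-- Orders of the preimages under the power map. -/
theorem card_pow_preimage [Finite G] {W C Y Z : Subgroup G} (hW : ∀ x ∈ W, ∀ y ∈ W, Commute x y)
    (hY : powSub p W ⊔ C ≤ Y) (hZ : ∀ z ∈ W, z ^ p ∈ C → z ∈ Z) :
    Nat.card W * Nat.card C ≤ Nat.card Y * Nat.card Z := by
  let f : W →* powSub p W :=
    MonoidHom.mk' (fun w => ⟨(w : G) ^ p, pow_mem_powSub w.2⟩)
      (fun a b => Subtype.ext ((hW a a.2 b b.2).mul_pow p))
  have hsurj : Function.Surjective f := fun z => by
    obtain ⟨x, hx, he⟩ := (mem_powSub hW).1 z.2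
    exact ⟨⟨x, hx⟩, Subtype.ext he⟩
  set D : Subgroup (powSub p W) := C.subgroupOf (powSub p W)
  have h1 : Nat.card (D.comap f) * D.index = Nat.card W := by
    have h := card_mul_index (D.comap f)
    rwa [index_comap_of_surjective _ hsurj] at h
  have h2 : Nat.card D * D.index = Nat.card ↥(powSub p W) := card_mul_index D
  have h3 : Nat.card (D.comap f) ≤ Nat.card Z :=
    Nat.card_le_card_of_injective (fun z => (⟨z.1.1, hZ z.1.1 z.1.2 z.2⟩ : Z))
      fun a b e => Subtype.ext (Subtype.ext (congrArg (fun x : Z => (x : G)) e))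
  have h4 : Nat.card D = Nat.card ↥(powSub p W ⊓ C) := by
    show Nat.card (C.subgroupOf (powSub p W)) = _
    rw [← inf_subgroupOf_right, inf_comm C, Nat.card_congr (subgroupOfEquivOfLe inf_le_left).toEquiv]
  have h5 : Nat.card ↥(powSub p W) * Nat.card C ≤ Nat.card Y * Nat.card D := by
    rw [h4]
    exact (CfsgLib.PLocal.card_mul_le_card_sup_mul_inf _ _).trans (Nat.mul_le_mul_right _ (card_le_of_le hY))
  refine Nat.le_of_mul_le_mul_left ?_ (Nat.card_pos (α := D))
  calc Nat.card D * (Nat.card W * Nat.card C) = Nat.card (D.comap f) * (Nat.card D * D.index * Nat.card C) := by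
        rw [← h1]; ring
    _ = Nat.card (D.comap f) * (Nat.card ↥(powSub p W) * Nat.card C) := by rw [h2]
    _ ≤ Nat.card Z * (Nat.card Y * Nat.card D) := Nat.mul_le_mul h3 h5
    _ = Nat.card D * (Nat.card Y * Nat.card Z) := by ring

variable [Finite G] [Fact p.Prime]

/-- A minimal offender acts quadratically with exponent `p` and centralises the `p`-th powers. -/
theorem exists_quadratic_offender {S W A : Subgroup G} [hWn : W.Normal] (hS : IsPGroup p S) (hWS : W ≤ S)
    (hW : ∀ x ∈ W, ∀ y ∈ W, Commute x y) (hAS : A ≤ S) (hA : ∀ x ∈ A, ∀ y ∈ A, Commute x y)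
    (hAC : ¬ A ≤ centralizer (W : Set G)) (hoff : Offends W A) :
    ∃ B ≤ A, ¬ B ≤ centralizer (W : Set G) ∧ Offends W B ∧
      (∀ b ∈ B, b ^ p ∈ centralizer (W : Set G)) ∧
      ∀ b ∈ B, ∀ x ∈ powSub p W, b * x = x * b := by
  classical
  set C := centralizer (W : Set G) with hC
  have hWC : W ≤ C := fun x hx => mem_centralizer_iff.2 fun y hy => (hW y hy x hx).eq
  obtain ⟨B, ⟨hBA, hAB, hBC, hBoff⟩, hmin⟩ := Set.exists_min_image
    {B : Subgroup G | B ≤ A ∧ A ⊓ C ≤ B ∧ ¬ B ≤ C ∧ Offends W B} (fun B => Nat.card B) (Set.toFinite _)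
    ⟨A, le_rfl, inf_le_left, hAC, hoff⟩
  have hker : B ⊓ C = A ⊓ C := le_antisymm (inf_le_inf_right _ hBA) (le_inf hAB inf_le_right)
  have hoffB : Nat.card ↥(A ⊓ C) * Nat.card W ≤ Nat.card B * Nat.card ↥(W ⊓ centralizer (B : Set G)) := by
    have := hBoff; rwa [Offends, hker] at this
  have hlt : ∀ B' : Subgroup G, B' ≤ B → A ⊓ C ≤ B' → B' ≠ B → ¬ B' ≤ C →
      Nat.card B' * Nat.card ↥(W ⊓ centralizer (B' : Set G)) < Nat.card ↥(A ⊓ C) * Nat.card W := by
    intro B' hB' hAB' hne hnC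
    by_contra hge
    push Not at hge
    have hoff' : Offends W B' := by
      rw [Offends, show B' ⊓ C = A ⊓ C from
        le_antisymm (inf_le_inf_right _ (hB'.trans hBA)) (le_inf hAB' inf_le_right)]
      exact hge
    exact hne (eq_of_le_of_card_ge hB' (hmin B' ⟨hB'.trans hBA, hAB', hnC, hoff'⟩))
  have hBcomm : ∀ x ∈ B, ∀ y ∈ B, Commute x y := fun x hx y hy => hA x (hBA hx) y (hBA hy)
  have hBab : ⁅B, B⁆ ≤ C := by
    rw [commutator_le]
    intro x hx y hy
    rw [commutatorElement_eq_one_iff_mul_comm.2 (hBcomm x hx y hy).eq]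
    exact one_mem C
  have hBW : B ≤ normalizer (W : Set G) := by rw [normalizer_eq_top]; exact le_top
  have hWc : W ≤ centralizer (W : Set G) := hWC
  have hbest : ∀ B' : Subgroup G, B' ≤ B → Nat.card B' * Nat.card ↥(W ⊓ centralizer (B' : Set G)) ≤
      Nat.card B * Nat.card ↥(W ⊓ centralizer (B : Set G)) := by
    intro B' hB'
    set B'' := B' ⊔ (A ⊓ C) with hB''
    have h1 : Nat.card B' * Nat.card ↥(W ⊓ centralizer (B' : Set G)) ≤
        Nat.card B'' * Nat.card ↥(W ⊓ centralizer (B'' : Set G)) := by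
      rw [hB'', centralizer_sup_kernel (inf_le_right : A ⊓ C ≤ C)]
      exact Nat.mul_le_mul_right _ (card_le_of_le le_sup_left)
    refine h1.trans ?_
    by_cases he : B'' = B
    · rw [he]
    by_cases hc : B'' ≤ C
    · have : B'' = A ⊓ C := le_antisymm (le_inf ((sup_le hB' hAB).trans hBA) hc) le_sup_right
      rw [this]
      exact (Nat.mul_le_mul_left _ (card_le_of_le inf_le_left)).trans hoffB
    · exact (hlt B'' (sup_le hB' hAB) le_sup_right he hc).le.trans hoffB
  obtain ⟨e1, e2⟩ := CfsgLib.PLocal.timmesfeld_eq hWc hBW hBab hbest (U := W) le_rfl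
  set B₀ := B ⊓ centralizer ((⁅W, B⁆ : Subgroup G) : Set G) with hB₀
  have hWB : ⁅W, B⁆ ≤ W := commutator_le_left W B
  have hCB₀ : A ⊓ C ≤ B₀ := le_inf hAB (inf_le_right.trans (centralizer_le hWB))
  have hquad : B₀ = B := by
    by_contra hne
    by_cases hc : B₀ ≤ C
    · apply hBC
      have hcov : W ≤ ⁅W, B⁆ ⊔ (W ⊓ centralizer (B : Set G)) := by
        rw [← e1]
        exact le_inf le_rfl (le_centralizer_iff.1 hc)
      have h0 := commutator_eq_bot_of_cover hS hWS (hBA.trans hAS) hW hcov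
      exact le_centralizer_iff.1 (commutator_eq_bot_iff_le_centralizer.1 h0)
    · have h1 := hlt B₀ inf_le_left hCB₀ hne hc
      rw [← e2] at h1
      exact absurd hoffB (not_le.2 h1)
  have hfix : ∀ b ∈ B, ∀ w ∈ W, ∀ b' ∈ B, Commute b' ⁅w, b⁆ := fun b hb w hw b' hb' => by
    rw [← hquad] at hb'
    exact (mem_centralizer_iff.1 hb'.2 _ (commutator_mem_commutator hw hb)).symm
  -- bilinearity
  have hbilb : ∀ b ∈ B, ∀ w ∈ W, ∀ n : ℕ, ⁅w, b ^ n⁆ = ⁅w, b⁆ ^ n := by
    intro b hb w hw n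
    induction n with
    | zero => simp
    | succ n ih =>
      have hc : Commute (b ^ n) ⁅w, b⁆ := (hfix b hb w hw b hb).pow_left n
      have e : ⁅w, b ^ n * b⁆ = ⁅w, b ^ n⁆ * (b ^ n * ⁅w, b⁆ * (b ^ n)⁻¹) := by
        simp only [commutatorElement_def]; group
      rw [pow_succ b n, e, hc.eq, mul_inv_cancel_right, ih, ← pow_succ]
  have hbilw : ∀ b ∈ B, ∀ w ∈ W, ∀ n : ℕ, ⁅w ^ n, b⁆ = ⁅w, b⁆ ^ n := by
    intro b hb w hw n
    induction n with
    | zero => simp
    | succ n ih =>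
      have hc : Commute w ⁅w ^ n, b⁆ :=
        hW w hw _ (hWB (commutator_mem_commutator (pow_mem hw n) hb))
      have e : ⁅w * w ^ n, b⁆ = w * ⁅w ^ n, b⁆ * w⁻¹ * ⁅w, b⁆ := by
        simp only [commutatorElement_def]; group
      rw [pow_succ' w n, e, hc.eq, mul_inv_cancel_right, ih, ← pow_succ]
  -- exponent
  have hexp : ∀ b ∈ B, b ^ p ∈ C := by
    let f : B →* G := MonoidHom.mk' (fun b => (b : G) ^ p)
      (fun a b => (hBcomm a a.2 b b.2).mul_pow p)
    let B₁ : Subgroup G :=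
      { carrier := {b | b ∈ B ∧ b ^ p ∈ C}
        one_mem' := ⟨one_mem B, by rw [one_pow]; exact one_mem C⟩
        mul_mem' := fun {x y} hx hy => ⟨mul_mem hx.1 hy.1, by
          rw [(hBcomm x hx.1 y hy.1).mul_pow]; exact mul_mem hx.2 hy.2⟩
        inv_mem' := fun {x} hx => ⟨inv_mem hx.1, by rw [inv_pow]; exact inv_mem hx.2⟩ }
    set B₂ := (A ⊓ C) ⊔ powSub p B with hB₂
    by_contra hall
    push Not at hall
    obtain ⟨b₀, hb₀, hb₀C⟩ := hall
    have hB₂B : B₂ ≤ B := sup_le hAB (powSub_le p B)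
    have hB₁B : B₁ ≤ B := fun x hx => hx.1
    have hB₁' : A ⊓ C ≤ B₁ := fun x hx => ⟨hAB hx, pow_mem hx.2 p⟩
    have hBp : IsPGroup p B := hS.to_le (hBA.trans hAS)
    have hne1 : B₁ ≠ B := fun e => hb₀C (e.ge hb₀).2
    have hnC1 : ¬ B₁ ≤ C := by
      intro hle
      have hkey : ∀ k : ℕ, ∀ x ∈ B, x ^ p ^ k ∈ C → x ∈ C := by
        intro k
        induction k with
        | zero => intro x _ h; simpa using h
        | succ k ih =>
          intro x hx h
          have h' : x ^ p ∈ C := ih (x ^ p) (pow_mem hx p) (by rw [← pow_mul, ← pow_succ']; exact h)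
          exact hle ⟨hx, h'⟩
      obtain ⟨k, hk⟩ := hBp ⟨b₀, hb₀⟩
      have h1 : b₀ ^ p ^ k = 1 := congrArg Subtype.val hk
      exact hb₀C (pow_mem (hkey k b₀ hb₀ (by rw [h1]; exact one_mem C)) p)
    have hnC2 : ¬ B₂ ≤ C := fun h => hb₀C (h (mem_sup_right (pow_mem_powSub hb₀)))
    have hne2 : B₂ ≠ B := fun e =>
      hBC ((le_of_le_sup_powSub hBcomm hBp hAB (e.ge.trans le_rfl)).trans inf_le_right)
    have h1 := hlt B₁ hB₁B hB₁' hne1 hnC1
    have h2 := hlt B₂ hB₂B le_sup_left hne2 hnC2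
    -- orders
    have hcardB : Nat.card B * Nat.card ↥(A ⊓ C) ≤ Nat.card B₁ * Nat.card B₂ := by
      have hcomap : (C.comap f) = B₁.subgroupOf B := by
        ext x; exact ⟨fun hx => ⟨x.2, hx⟩, fun hx => hx.2⟩
      have hB1 : Nat.card B = Nat.card B₁ * C.relIndex f.range := by
        have h := card_mul_index (C.comap f)
        rw [index_comap, hcomap, Nat.card_congr (subgroupOfEquivOfLe hB₁B).toEquiv] at h
        exact h.symm
      have hfB : f.range ≤ B₂ := by
        rintro _ ⟨x, rfl⟩; exact mem_sup_right (pow_mem_powSub x.2)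
      have hrel : C.relIndex f.range ≤ C.relIndex B₂ :=
        relIndex_le_of_le_right hfB index_ne_zero_of_finite
      have hB2 : Nat.card B₂ = Nat.card ↥(A ⊓ C) * C.relIndex B₂ := by
        have h := card_mul_index ((B₂ ⊓ C).subgroupOf B₂)
        rw [Nat.card_congr (subgroupOfEquivOfLe inf_le_left).toEquiv] at h
        rw [← h, show (B₂ ⊓ C).subgroupOf B₂ = C.subgroupOf B₂ by
          ext x; simp [mem_subgroupOf],
          show B₂ ⊓ C = A ⊓ C from le_antisymm (inf_le_inf_right _ (hB₂B.trans hBA))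
            (le_inf le_sup_left inf_le_right)]
        rfl
      calc Nat.card B * Nat.card ↥(A ⊓ C) = Nat.card B₁ * C.relIndex f.range * Nat.card ↥(A ⊓ C) := by
            rw [hB1]
        _ ≤ Nat.card B₁ * C.relIndex B₂ * Nat.card ↥(A ⊓ C) :=
            Nat.mul_le_mul_right _ (Nat.mul_le_mul_left _ hrel)
        _ = Nat.card B₁ * Nat.card B₂ := by rw [hB2]; ring
    set C₀ := W ⊓ centralizer (B : Set G)
    have hfix1 : powSub p W ⊔ C₀ ≤ W ⊓ centralizer (B₁ : Set G) := by
      refine sup_le (le_inf (powSub_le p W) fun z hz => ?_) (inf_le_inf_left _ (centralizer_le hB₁B))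
      obtain ⟨w, hw, rfl⟩ := (mem_powSub hW).1 hz
      refine mem_centralizer_iff.2 fun b hb => ?_
      obtain ⟨hbB, hbC⟩ := hb
      have h : ⁅w ^ p, b⁆ = 1 := by
        rw [hbilw b hbB w hw p, ← hbilb b hbB w hw p, commutatorElement_eq_one_iff_mul_comm]
        exact mem_centralizer_iff.1 hbC w hw
      exact (commutatorElement_eq_one_iff_mul_comm.1 h).symm
    have hfix2 : ∀ z ∈ W, z ^ p ∈ C₀ → z ∈ W ⊓ centralizer (B₂ : Set G) := by
      intro z hz hzp
      have hle : B₂ ≤ centralizer (zpowers z : Set G) := by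
        refine sup_le (inf_le_right.trans (centralizer_le (zpowers_le.2 hz))) ((closure_le _).2 ?_)
        rintro _ ⟨b, hb, rfl⟩
        have h : ⁅z, b ^ p⁆ = 1 := by
          rw [hbilb b hb z hz p, ← hbilw b hb z hz p, commutatorElement_eq_one_iff_mul_comm]
          exact (mem_centralizer_iff.1 hzp.2 b hb).symm
        refine mem_centralizer_iff.2 fun y hy => ?_
        obtain ⟨k, rfl⟩ := mem_zpowers_iff.1 hy
        exact ((show Commute z (b ^ p) from commutatorElement_eq_one_iff_mul_comm.1 h).zpow_left k).eq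
      exact ⟨hz, le_centralizer_iff.1 hle (mem_zpowers z)⟩
    have hX := card_pow_preimage (p := p) (C := C₀) hW hfix1 hfix2
    set a := Nat.card ↥(A ⊓ C)
    set w := Nat.card W
    set c0 := Nat.card C₀
    set x1 := Nat.card ↥(W ⊓ centralizer (B₁ : Set G))
    set x2 := Nat.card ↥(W ⊓ centralizer (B₂ : Set G))
    have h12 := Nat.mul_lt_mul'' h1 h2
    have hfull : a * w * (a * w) ≤ Nat.card B₁ * x1 * (Nat.card B₂ * x2) := by
      calc a * w * (a * w) ≤ a * w * (Nat.card B * c0) := Nat.mul_le_mul_left _ hoffB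
        _ = (Nat.card B * a) * (w * c0) := by ring
        _ ≤ (Nat.card B₁ * Nat.card B₂) * (x1 * x2) := Nat.mul_le_mul hcardB hX
        _ = Nat.card B₁ * x1 * (Nat.card B₂ * x2) := by ring
    exact absurd h12 (not_lt.2 hfull)
  exact ⟨B, hBA, hBC, hBoff, hexp, fun b hb x hx => by
    obtain ⟨w, hw, rfl⟩ := (mem_powSub hW).1 hx
    have h : ⁅w ^ p, b⁆ = 1 := by
      rw [hbilw b hb w hw p, ← hbilb b hb w hw p, commutatorElement_eq_one_iff_mul_comm]
      exact mem_centralizer_iff.1 (hexp b hb) w hw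
    exact (commutatorElement_eq_one_iff_mul_comm.1 h).symm⟩

end CfsgLib.CentralWeak
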