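import Cfsg.Agent.Lib.CentralWeak.Module
import Cfsg.Agent.Lib.CentralWeak.Offender
import Cfsg.Agent.Lib.Complement.AbelianThompson

/-!
# A central subgroup of a Sylow subgroup fixed by the normalizer of `J(S)`
-/

set_option autoImplicit false
set_option linter.unusedSectionVars false

namespace CfsgLib.CentralWeak

open Subgroup
open scoped commutatorElement

universe u

/-- `T` has an automorphism of order prime to `p` induced by `G` and transitive on the nontrivial commutators. -/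
def HasTransitiveAut (p : ℕ) {G : Type u} [Group G] (T : Subgroup G) : Prop :=
  ∃ h : G, (∀ t ∈ T, h * t * h⁻¹ ∈ T) ∧
    (∃ n : ℕ, n.Coprime p ∧ ∀ t ∈ T, h ^ n * t * (h ^ n)⁻¹ = t) ∧ (∃ t ∈ T, h * t * h⁻¹ ≠ t) ∧
    ∀ s ∈ T, ∀ s' ∈ T, ⁅h, s⁆ ≠ 1 → ⁅h, s'⁆ ≠ 1 → ∃ k : ℕ, h ^ k * ⁅h, s⁆ * (h ^ k)⁻¹ = ⁅h, s'⁆

theorem HasTransitiveAut.map {p : ℕ} {G H : Type u} [Group G] [Group H] (f : G →* H)
    (hf : Function.Injective f) {T : Subgroup G} (h : HasTransitiveAut p T) : HasTransitiveAut p (T.map f) := by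
  obtain ⟨x, h1, ⟨n, hn, h2⟩, ⟨t, ht, h3⟩, h4⟩ := h
  refine ⟨f x, ?_, ⟨n, hn, ?_⟩, ⟨f t, mem_map_of_mem f ht, fun e => h3 (hf (by simpa using e))⟩, ?_⟩
  · rintro _ ⟨s, hs, rfl⟩
    exact ⟨_, h1 s hs, by simp⟩
  · rintro _ ⟨s, hs, rfl⟩
    rw [← map_pow, ← map_inv, ← map_mul, ← map_mul, h2 s hs]
  · rintro _ ⟨s, hs, rfl⟩ _ ⟨s', hs', rfl⟩ hne hne'
    rw [← map_commutatorElement] at hne hne' ⊢
    obtain ⟨k, hk⟩ := h4 s hs s' hs' (fun e => hne (by rw [e, map_one])) (fun e => hne' (by rw [e, map_one]))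
    exact ⟨k, by rw [← map_commutatorElement, ← hk]; simp⟩

variable {p : ℕ} [Fact p.Prime]

set_option maxHeartbeats 800000 in
/-- The group theorem. -/
theorem exists_transitive (hp : p ≠ 2) :
    ∀ (n : ℕ) {G : Type u} [Group G] [Finite G] (S : Sylow p G) (U : Subgroup G), Nat.card G = n →
      U.Normal → IsPGroup p U → ∀ T : Subgroup G, T ≤ U →
      (∀ s ∈ (S : Subgroup G), ∀ t ∈ T, s * t = t * s) →
      normalizer (Cfsg.thompsonSubgroupAOf (S : Subgroup G) : Set G) ≤ normalizer (T : Set G) →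
      ¬ T.Normal → HasTransitiveAut p T := by
  classical
  intro n
  induction n using Nat.strong_induction_on with
  | _ n ih =>
  intro G _ _ S U hn hUn hUp T hTU hTS hJ hTn
  haveI := hUn
  set M := normalizer (T : Set G) with hMdef
  have hSM : (S : Subgroup G) ≤ M := fun s hs => mem_normalizer_iff.2 fun x => by
    constructor
    · intro hx; rwa [hTS s hs x hx, mul_inv_cancel_right]
    · intro hx
      have h := hTS s hs _ hx
      have e : x = s * x * s⁻¹ := by
        calc x = s⁻¹ * ((s * x * s⁻¹) * s) := by group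
          _ = s⁻¹ * (s * (s * x * s⁻¹)) := by rw [h]
          _ = s * x * s⁻¹ := by group
      rwa [e]
  have hMtop : M ≠ ⊤ := fun e => hTn (normalizer_eq_top_iff.1 e)
  have hUS : U ≤ (S : Subgroup G) := by
    exact le_trans (CfsgLib.Solvable.le_pCore hUn hUp) (CfsgLib.Solvable.pCore_le_sylow S)
  -- overgroups
  by_cases hsmall : ∃ H : Subgroup G, (S : Subgroup G) ≤ H ∧ H ≠ ⊤ ∧ ¬ H ≤ M
  · obtain ⟨H, hSH, hHtop, hHM⟩ := hsmall
    have hlt : Nat.card H < n := hn ▸ lt_of_le_of_ne (card_le_card_group H)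
      fun h => hHtop (eq_top_of_card_eq _ h)
    have hTH : T ≤ H := (hTU.trans hUS).trans hSH
    have hJ' : normalizer (Cfsg.thompsonSubgroupAOf ((S.subtype hSH : Sylow p H) : Subgroup H) : Set H) ≤
        normalizer ((T.subgroupOf H : Subgroup H) : Set H) := by
      intro x hx
      rw [mem_normalizer_iff_map_conj_eq] at hx
      have h1 : (Cfsg.thompsonSubgroupAOf ((S.subtype hSH : Sylow p H) : Subgroup H)).map H.subtype =
          Cfsg.thompsonSubgroupAOf (S : Subgroup G) := by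
        rw [CfsgLib.Complement.thompsonAOf_map H.subtype H.subtype_injective.injOn]
        show Cfsg.thompsonSubgroupAOf (((S : Subgroup G).subgroupOf H).map H.subtype) = _
        rw [map_subgroupOf_eq_of_le hSH]
      have h2 : (x : G) ∈ M := hJ (by
        rw [mem_normalizer_iff_map_conj_eq, ← h1, map_map]
        conv_rhs => rw [← hx, map_map]
        rfl)
      refine mem_normalizer_iff.2 fun y => ?_
      exact (mem_normalizer_iff.1 h2 (y : G))
    have hTn' : ¬ (T.subgroupOf H).Normal := fun h =>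
      hHM ((normal_subgroupOf_iff_le_normalizer hTH).1 h)
    have hres := ih _ hlt (S.subtype hSH) (U.subgroupOf H) rfl inferInstance
      (hUp.comap_of_injective H.subtype H.subtype_injective) (T.subgroupOf H) (fun x hx => hTU hx)
      (fun s hs t ht => Subtype.ext (hTS s hs t ht)) hJ' hTn'
    have := hres.map H.subtype H.subtype_injective
    rwa [map_subgroupOf_eq_of_le hTH] at this
  push Not at hsmall
  -- the normal closure of `T`
  set W := normalClosure (T : Set G) with hWdef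
  haveI hWn : W.Normal := normalClosure_normal
  have hTW : T ≤ W := le_normalClosure
  have hWU : W ≤ U := normalClosure_le_normal hTU
  have hWcen : W ≤ centralizer (U : Set G) := by
    refine normalClosure_le_normal fun t ht => mem_centralizer_iff.2 fun x hx => ?_
    exact hTS x (hUS hx) t ht
  have hW : ∀ x ∈ W, ∀ y ∈ W, Commute x y := fun x hx y hy =>
    (mem_centralizer_iff.1 (hWcen hy) x (hWU hx))
  have hWp : IsPGroup p W := hUp.to_le hWU
  have hWS : W ≤ (S : Subgroup G) := hWU.trans hUS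
  set C := centralizer (W : Set G) with hCdef
  have hCM : C ≤ M := fun c hc => mem_normalizer_iff.2 fun x => by
    have e : ∀ y ∈ W, c * y * c⁻¹ = y := fun y hy => by
      rw [← mem_centralizer_iff.1 hc y hy, mul_inv_cancel_right]
    constructor
    · intro hx; rwa [e x (hTW hx)]
    · intro hx
      have h1 := e _ (hTW hx)
      have h2 : c * x * c⁻¹ = x := mul_left_cancel (mul_right_cancel h1)
      rwa [h2] at hx
  -- normal subgroups inside `M`
  have hcore : ∀ N : Subgroup G, N.Normal → N ≤ M → N ⊓ (S : Subgroup G) ≤ C := by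
    intro N hNn hNM
    haveI := hNn
    have hf := CfsgLib.PLocal.frattini_sup S N
    set Q := (S : Subgroup G) ⊓ N with hQ
    have hSQ : (S : Subgroup G) ≤ normalizer (Q : Set G) := fun s hs =>
      inf_normalizer_le_normalizer_inf ⟨le_normalizer hs, by rw [normalizer_eq_top]; exact mem_top s⟩
    by_cases htop : normalizer (Q : Set G) = ⊤
    · have hQn : Q.Normal := normalizer_eq_top_iff.1 htop
      haveI := hQn
      have hT : T ≤ centralizer (Q : Set G) := fun t ht => mem_centralizer_iff.2 fun q hq => hTS q hq.1 t ht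
      have hWQ : W ≤ centralizer (Q : Set G) := normalClosure_le_normal hT
      rw [inf_comm]
      exact le_centralizer_iff.1 hWQ
    · exact absurd (top_le_iff.1 (hf.ge.trans (sup_le hNM (hsmall _ hSQ htop)))) hMtop
  set W₀ := powSub p W with hW₀def
  haveI hW₀n : W₀.Normal := powSub_normal p W
  have hW₀W : W₀ ≤ W := powSub_le p W
  -- `T W₀` has the same stabilizer
  have hM' : ∀ g : G, (∀ t ∈ T, g * t * g⁻¹ ∈ T ⊔ W₀) → g ∈ M := by
    intro g hg
    let M' := normalizer ((T ⊔ W₀ : Subgroup G) : Set G)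
    have hgM : g ∈ M' := mem_normalizer_iff_map_conj_eq.2 (eq_of_le_of_card_ge (by
      rw [map_le_iff_le_comap]
      exact sup_le hg fun w hw => mem_sup_right (hW₀n.conj_mem w hw g)) (card_map_of_injective (MulAut.conj g).injective).ge)
    have hMM' : M ≤ M' := fun x hx => by
      refine mem_normalizer_iff_map_conj_eq.2 ?_
      rw [Subgroup.map_sup, mem_normalizer_iff_map_conj_eq.1 hx,
        mem_normalizer_iff_map_conj_eq.1 (show x ∈ normalizer (W₀ : Set G) by rw [normalizer_eq_top]; exact mem_top x)]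
    refine hsmall _ (hSM.trans hMM') ?_ hgM
    intro htop
    apply hTn
    have hn' : (T ⊔ W₀).Normal := normalizer_eq_top_iff.1 htop
    have hWT : W ≤ T := le_of_le_sup_powSub hW hWp hTW (normalClosure_le_normal fun x hx => mem_sup_left hx)
    rw [show T = W from le_antisymm hTW hWT]
    exact hWn
  -- the offender
  have hJC : ¬ Cfsg.thompsonSubgroupAOf (S : Subgroup G) ≤ C := by
    intro hle
    haveI : C.Normal := inferInstance
    have hf := CfsgLib.PLocal.frattini_sup S C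
    have e := CfsgLib.Complement.thompsonAOf_eq_of_le
      (le_inf (CfsgLib.Complement.thompsonAOf_le _) hle) (inf_le_left : (S : Subgroup G) ⊓ C ≤ S)
    have h1 : normalizer (((S : Subgroup G) ⊓ C : Subgroup G) : Set G) ≤ M := by
      refine (CfsgLib.Complement.normalizer_le_normalizer_thompsonAOf _).trans ?_
      rw [e]; exact hJ
    exact hMtop (top_le_iff.1 (hf.ge.trans (sup_le hCM h1)))
  obtain ⟨A, hA, hAC⟩ : ∃ A ∈ CfsgLib.Complement.maxAbIn (S : Subgroup G), ¬ A ≤ C := by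
    by_contra h
    push Not at h
    exact hJC ((CfsgLib.Complement.thompsonAOf_eq _).le.trans (sSup_le h))
  have hAc : ∀ x ∈ A, ∀ y ∈ A, Commute x y := fun x hx y hy =>
    congrArg Subtype.val (hA.2.1.is_comm.comm (⟨x, hx⟩ : A) ⟨y, hy⟩)
  have hoffA : Offends W A := by
    set K := A ⊓ C with hK
    have hKW : IsMulCommutative ↥(K ⊔ W) := by
      rw [← le_centralizer_iff_isMulCommutative]
      have h1 : K ⊔ W ≤ centralizer (K : Set G) := sup_le
        (fun a ha => mem_centralizer_iff.2 fun b hb => (hAc b hb.1 a ha.1).eq)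
        (le_centralizer_iff.1 inf_le_right)
      have h2 : K ⊔ W ≤ centralizer (W : Set G) := sup_le inf_le_right
        (fun a ha => mem_centralizer_iff.2 fun b hb => (hW b hb a ha).eq)
      exact sup_le (le_centralizer_iff.1 h1) (le_centralizer_iff.1 h2)
    calc Nat.card K * Nat.card W ≤ Nat.card ↥(K ⊔ W) * Nat.card ↥(K ⊓ W) :=
          CfsgLib.PLocal.card_mul_le_card_sup_mul_inf _ _
      _ ≤ Nat.card A * Nat.card ↥(W ⊓ centralizer (A : Set G)) := by
          refine Nat.mul_le_mul (hA.2.2 _ (sup_le (inf_le_left.trans hA.1) hWS) hKW) (card_le_of_le ?_)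
          exact fun x hx => ⟨hx.2, mem_centralizer_iff.2 fun a ha => (hAc a ha x hx.1.1).eq⟩
  obtain ⟨B, hBA, hBC, hBoff, hBexp, hBW₀⟩ :=
    exists_quadratic_offender S.2 hWS hW hA.1 (fun x hx y hy => hAc x hx y hy) hAC hoffA
  -- the module
  set W₀' := W₀.subgroupOf W
  haveI : W₀'.Normal := inferInstance
  let V := ↥W ⧸ W₀'
  have hVcomm : ∀ a c : V, a * c = c * a := fun a c => by
    obtain ⟨a, rfl⟩ := QuotientGroup.mk'_surjective W₀' a
    obtain ⟨c, rfl⟩ := QuotientGroup.mk'_surjective W₀' c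
    rw [← map_mul, ← map_mul, show a * c = c * a from Subtype.ext (hW a a.2 c c.2).eq]
  letI : CommGroup V := { (inferInstance : Group V) with mul_comm := hVcomm }
  let π : W →* V := QuotientGroup.mk' W₀'
  have hπs : Function.Surjective π := QuotientGroup.mk'_surjective _
  have hπeq : ∀ {a b : W}, π a = π b ↔ ((a : G))⁻¹ * b ∈ W₀ := fun {a b} => by
    rw [show (π a = π b) = ((a : V) = (b : V)) from rfl, QuotientGroup.eq]
    rfl
  have hmapW : ∀ g : G, W₀'.map (MulAut.conjNormal g : MulAut W).toMonoidHom = W₀' := fun g => by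
    refine eq_of_le_of_card_ge ?_ (card_map_of_injective (MulAut.conjNormal g : MulAut W).injective).ge
    rintro _ ⟨w, hw, rfl⟩
    show ((MulAut.conjNormal g : MulAut W) w : G) ∈ W₀
    rw [MulAut.conjNormal_apply]
    exact hW₀n.conj_mem _ hw g
  let act : G →* MulAut V :=
    MonoidHom.mk' (fun g => QuotientGroup.congr W₀' W₀' (MulAut.conjNormal g : MulAut W) (hmapW g))
      (fun g g' => MulEquiv.ext fun v => by
        obtain ⟨w, rfl⟩ := hπs v
        show π ((MulAut.conjNormal (g * g') : MulAut W) w) = π (MulAut.conjNormal g ((MulAut.conjNormal g' : MulAut W) w))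
        rw [map_mul]; rfl)
  have hact : ∀ g w, act g (π w) = π (MulAut.conjNormal g w) := fun g w => rfl
  set K := act.ker with hKdef
  have hKmem : ∀ k ∈ K, ∀ w ∈ W, ⁅w, k⁆ ∈ W₀ := by
    intro k hk w hw
    have h : π (MulAut.conjNormal k (⟨w⁻¹, inv_mem hw⟩ : W)) = π ⟨w⁻¹, inv_mem hw⟩ := by
      rw [← hact, MonoidHom.mem_ker.1 hk]; rfl
    have h1 := hπeq.1 h.symm
    rw [MulAut.conjNormal_apply] at h1
    simp only [inv_inv] at h1
    simpa [commutatorElement_def, mul_assoc] using h1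
  have hKM : K ≤ M := fun k hk => hM' k fun t ht => by
    have h := inv_mem (hKmem k hk t (hTW ht))
    have e : k * t * k⁻¹ = ⁅t, k⁆⁻¹ * t := by simp only [commutatorElement_def]; group
    rw [e]
    exact mul_mem (mem_sup_right h) (mem_sup_left ht)
  have hKS : K ⊓ (S : Subgroup G) ≤ C := hcore K (MonoidHom.normal_ker act) hKM
  -- the image
  set Gm := act.range
  set q : G →* Gm := act.rangeRestrict with hq
  have hqs : Function.Surjective q := act.rangeRestrict_surjective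
  set T' : Subgroup V := (T.subgroupOf W).map π with hT'
  have hT'mem : ∀ {g : G}, (∀ v ∈ T', act g v ∈ T') → g ∈ M := by
    intro g hg
    refine hM' g fun t ht => ?_
    obtain ⟨t', ht', e⟩ := hg (π ⟨t, hTW ht⟩) (mem_map_of_mem π ht)
    rw [hact] at e
    have h := hπeq.1 e
    rw [MulAut.conjNormal_apply] at h
    have e2 : g * t * g⁻¹ = (t' : G) * ((t' : G)⁻¹ * (g * t * g⁻¹)) := by group
    rw [e2]
    exact mul_mem (mem_sup_left ht') (mem_sup_right h)
  have hMimg : ∀ g ∈ M, ∀ v ∈ T', act g v ∈ T' := by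
    rintro g hg _ ⟨t, ht, rfl⟩
    rw [hact]
    refine mem_map_of_mem π ?_
    show ((MulAut.conjNormal g : MulAut W) t : G) ∈ T
    rw [MulAut.conjNormal_apply]
    exact (mem_normalizer_iff.1 hg _).1 ht
  set S' : Sylow p Gm := S.mapSurjective hqs
  have hS' : (S' : Subgroup Gm) = (S : Subgroup G).map q := rfl
  let M' : Subgroup Gm := M.map q
  have hM'iff : ∀ r : Gm, r ∈ M' ↔ ∀ v ∈ T', (r : MulAut V) v ∈ T' := by
    intro r
    obtain ⟨g, rfl⟩ := hqs r
    exact ⟨by rintro ⟨m, hm, e⟩; rw [← e]; exact hMimg m hm, fun h => mem_map_of_mem q (hT'mem h)⟩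
  have hqM : ∀ g : G, q g ∈ M' → g ∈ M := fun g h => hT'mem ((hM'iff (q g)).1 h)
  have hgen : ∀ X : Subgroup V, T' ≤ X → (∀ r : Gm, ∀ v ∈ X, (r : MulAut V) v ∈ X) → X = ⊤ := by
    intro X hTX hinv
    let Y : Subgroup G := (X.comap π).map W.subtype
    haveI hY : Y.Normal := ⟨fun y hy g => by
      obtain ⟨w, hw, rfl⟩ := hy
      refine ⟨MulAut.conjNormal g w, ?_, by show ((MulAut.conjNormal g : MulAut W) w : G) = _; rw [MulAut.conjNormal_apply]; rfl⟩
      show π (MulAut.conjNormal g w) ∈ X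
      rw [← hact]
      exact hinv (q g) _ hw⟩
    have hle : W ≤ Y := normalClosure_le_normal fun t ht => ⟨⟨t, hTW ht⟩, hTX (mem_map_of_mem π ht), rfl⟩
    refine eq_top_iff.2 fun v _ => ?_
    obtain ⟨w, rfl⟩ := hπs v
    obtain ⟨w', hw', e⟩ := hle w.2
    rw [← show w' = w from Subtype.ext e]
    exact hw'
  have hVp : ∀ v : V, v ^ p = 1 := fun v => by
    obtain ⟨w, rfl⟩ := hπs v
    rw [← map_pow]
    exact (QuotientGroup.eq_one_iff _).2 (show ((w ^ p : W) : G) ∈ W₀ by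
      rw [SubmonoidClass.coe_pow]; exact pow_mem_powSub w.2)
  -- the offender in the image
  set A₀ := B.map q
  have hBKC : B ⊓ K ≤ B ⊓ C := le_inf inf_le_left ((inf_le_inf_right _ (hBA.trans hA.1)).trans (by rw [inf_comm]; exact hKS))
  have hA₀1 : A₀ ≠ ⊥ := fun e => hBC fun b hb => (hBKC ⟨hb, by
    have h : q b = 1 := mem_bot.1 (e ▸ mem_map_of_mem q hb)
    exact congrArg Subtype.val h⟩).2
  have hA₀off : Nat.card V ≤ Nat.card A₀ * Nat.card (fixV Gm.subtype A₀) := by
    have hB1 : Nat.card A₀ * Nat.card ↥(B ⊓ C) ≥ Nat.card B := by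
      have h := card_mul_index (q.comp B.subtype).ker
      rw [index_ker, MonoidHom.range_comp, range_subtype] at h
      rw [← h, ge_iff_le, mul_comm (Nat.card A₀)]
      refine Nat.mul_le_mul_right _ (Nat.card_le_card_of_injective (fun x => (⟨x.1.1, hBKC ⟨x.1.2,
        congrArg Subtype.val (MonoidHom.mem_ker.1 x.2)⟩⟩ : ↥(B ⊓ C)))
        fun x y e => Subtype.ext (Subtype.ext (congrArg (fun z : ↥(B ⊓ C) => (z : G)) e)))
    set C₀ := W ⊓ centralizer (B : Set G)
    have hC₀ : W₀ ≤ C₀ := le_inf hW₀W fun x hx => mem_centralizer_iff.2 fun b hb => hBW₀ b hb x hx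
    have hfix : Nat.card C₀ ≤ Nat.card (fixV Gm.subtype A₀) * Nat.card W₀ := by
      let f : C₀ →* fixV Gm.subtype A₀ :=
        MonoidHom.mk' (fun c => ⟨π ⟨c, c.2.1⟩, by
          rintro _ ⟨b, hb, rfl⟩
          show act b (π _) = π _
          rw [hact]
          refine congrArg π (Subtype.ext ?_)
          rw [MulAut.conjNormal_apply]
          show b * (c : G) * b⁻¹ = c
          rw [mem_centralizer_iff.1 c.2.2 b hb, mul_inv_cancel_right]⟩)
          (fun a b => Subtype.ext (map_mul π ⟨a, a.2.1⟩ ⟨b, b.2.1⟩))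
      have h := card_mul_index f.ker
      rw [index_ker] at h
      rw [← h, mul_comm (Nat.card f.ker)]
      refine Nat.mul_le_mul (card_le_card_group _) (Nat.card_le_card_of_injective
        (fun x => (⟨x.1.1, (QuotientGroup.eq_one_iff (N := W₀') (⟨x.1.1, x.1.2.1⟩ : W)).1
          (congrArg Subtype.val (MonoidHom.mem_ker.1 x.2) : _)⟩ : W₀))
        fun x y e => Subtype.ext (Subtype.ext (congrArg (fun z : W₀ => (z : G)) e)))
    have hWV : Nat.card W = Nat.card V * Nat.card W₀ := by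
      rw [card_eq_card_quotient_mul_card_subgroup W₀', Nat.card_congr (subgroupOfEquivOfLe hW₀W).toEquiv]
    have hoff : Nat.card ↥(B ⊓ C) * Nat.card W ≤ Nat.card B * Nat.card C₀ := hBoff
    refine Nat.le_of_mul_le_mul_right ?_ (Nat.mul_pos (Nat.card_pos (α := ↥(B ⊓ C))) (Nat.card_pos (α := W₀)))
    calc Nat.card V * (Nat.card ↥(B ⊓ C) * Nat.card W₀) = Nat.card ↥(B ⊓ C) * Nat.card W := by rw [hWV]; ring
      _ ≤ Nat.card B * Nat.card C₀ := hoff
      _ ≤ (Nat.card A₀ * Nat.card ↥(B ⊓ C)) * (Nat.card (fixV Gm.subtype A₀) * Nat.card W₀) :=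
          Nat.mul_le_mul hB1 hfix
      _ = _ := by ring
  obtain ⟨h, hhN, hhT, ⟨m, hm, hhm⟩, ⟨v₁, hv₁, hmov⟩, htrans⟩ :=
    exists_module_torus (Gm := Gm) (V := V) Gm.subtype Gm.subtype_injective hp hVp S' T'
      (by
        rintro _ ⟨s, hs, rfl⟩ _ ⟨t, ht, rfl⟩
        show act s (π t) = π t
        rw [hact]
        refine congrArg π (Subtype.ext ?_)
        rw [MulAut.conjNormal_apply, hTS s hs t ht, mul_inv_cancel_right])
      hgen M' hM'iff
      (fun e => hMtop (eq_top_iff.2 fun g _ => hqM g (e ▸ mem_top _)))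
      (fun X hSX hXtop r hr => by
        obtain ⟨g, rfl⟩ := hqs r
        refine mem_map_of_mem q (hsmall (X.comap q) (fun s hs => hSX (mem_map_of_mem q hs)) (fun e => hXtop ?_) hr)
        exact eq_top_iff.2 fun r _ => by obtain ⟨g, rfl⟩ := hqs r; exact e.ge (mem_top g))
      (A₀ := A₀) (map_mono (hBA.trans hA.1))
      (by
        rintro _ ⟨a, ha, rfl⟩ _ ⟨b, hb, rfl⟩
        rw [← map_mul, ← map_mul, (hAc a (hBA ha) b (hBA hb)).eq])
      (by
        rintro _ ⟨b, hb, rfl⟩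
        rw [← map_pow]
        refine Subtype.ext (MulEquiv.ext fun v => ?_)
        obtain ⟨w, rfl⟩ := hπs v
        show act (b ^ p) (π w) = π w
        rw [hact]
        refine congrArg π (Subtype.ext ?_)
        rw [MulAut.conjNormal_apply, ← mem_centralizer_iff.1 (hBexp b hb) w w.2, mul_inv_cancel_right])
      hA₀1 hA₀off
  -- lift
  set N₀ := normalClosure (B : Set G)
  have hN₀fix : N₀ ≤ centralizer (W₀ : Set G) := by
    haveI : (centralizer (W₀ : Set G)).Normal := inferInstance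
    refine normalClosure_le_normal fun b hb => mem_centralizer_iff.2 fun x hx => (hBW₀ b hb x hx).symm
  obtain ⟨g, hgN, rfl⟩ : ∃ g ∈ N₀, q g = h := by
    have hle : normalClosure (A₀ : Set Gm) ≤ N₀.map q := by
      haveI : (N₀.map q).Normal := (normalClosure_normal : N₀.Normal).map q hqs
      refine normalClosure_le_normal ?_
      rintro _ ⟨b, hb, rfl⟩
      exact mem_map_of_mem q (subset_normalClosure hb)
    exact hle hhN
  have hgM : g ∈ M := hqM g ((hM'iff _).2 hhT)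
  have hgfix : ∀ x ∈ W₀, ∀ k : ℕ, g ^ k * x * (g ^ k)⁻¹ = x := fun x hx k => by
    rw [← mem_centralizer_iff.1 (hN₀fix (pow_mem hgN k)) x hx, mul_inv_cancel_right]
  have hgT : ∀ k : ℕ, ∀ t ∈ T, g ^ k * t * (g ^ k)⁻¹ ∈ T := fun k t ht =>
    (mem_normalizer_iff.1 (M.pow_mem hgM k) t).1 ht
  have hgV : ∀ (k : ℕ) (t : G) (ht : t ∈ W),
      ((q g ^ k : Gm) : MulAut V) (π ⟨t, ht⟩) = π ⟨g ^ k * t * (g ^ k)⁻¹, hWn.conj_mem t ht _⟩ := by
    intro k t ht
    rw [← map_pow]
    show act (g ^ k) (π ⟨t, ht⟩) = _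
    rw [hact]
    exact congrArg π (Subtype.ext (MulAut.conjNormal_apply _ _))
  -- powers of `g ^ m` translate
  have htr : ∀ t ∈ T, ∃ c ∈ W₀, c ∈ T ∧ ∀ j : ℕ, g ^ (m * j) * t * (g ^ (m * j))⁻¹ = t * c ^ j := by
    intro t ht
    set c := t⁻¹ * (g ^ m * t * (g ^ m)⁻¹)
    have hc : c ∈ W₀ := by
      have h := hhm (π ⟨t, hTW ht⟩) (mem_map_of_mem π ht)
      rw [show Gm.subtype (q g ^ m) = ((q g ^ m : Gm) : MulAut V) from rfl, hgV] at h
      exact hπeq.1 h.symm
    refine ⟨c, hc, mul_mem (inv_mem ht) (hgT m t ht), fun j => ?_⟩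
    induction j with
    | zero => simp
    | succ j ihj =>
      calc g ^ (m * (j + 1)) * t * (g ^ (m * (j + 1)))⁻¹
          = g ^ m * (g ^ (m * j) * t * (g ^ (m * j))⁻¹) * (g ^ m)⁻¹ := by
            rw [show m * (j + 1) = m + m * j by ring, pow_add]; group
        _ = (g ^ m * t * (g ^ m)⁻¹) * (g ^ m * c ^ j * (g ^ m)⁻¹) := by rw [ihj]; group
        _ = t * c * c ^ j := by rw [hgfix _ (pow_mem hc j) m]; simp only [c, mul_inv_cancel_left]
        _ = t * c ^ (j + 1) := by rw [pow_succ', mul_assoc]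
  obtain ⟨e, he⟩ := IsPGroup.iff_card.1 hWp
  have hWexp : ∀ w ∈ W, w ^ p ^ e = 1 := fun w hw => by
    rw [← he]; exact congrArg Subtype.val (pow_card_eq_one' (x := (⟨w, hw⟩ : W)))
  set g' := g ^ p ^ e with hg'
  have hg'n : ∀ t ∈ T, g' ^ m * t * (g' ^ m)⁻¹ = t := fun t ht => by
    obtain ⟨c, hc, -, hj⟩ := htr t ht
    rw [hg', ← pow_mul, mul_comm, hj, hWexp c (hW₀W hc), mul_one]
  have hg'T : ∀ t ∈ T, g' * t * g'⁻¹ ∈ T := fun t ht => hgT _ t ht
  have hfree : ∀ t ∈ T, ⁅g', t⁆ ∈ W₀ → ⁅g', t⁆ = 1 := by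
    intro t ht hc
    set a := ⁅g', t⁆ with ha
    have hfa : g' * a * g'⁻¹ = a := hgfix a hc _
    have hk : ∀ k : ℕ, g' ^ k * t * (g' ^ k)⁻¹ = a ^ k * t := by
      intro k
      induction k with
      | zero => simp
      | succ k ihk =>
        calc g' ^ (k + 1) * t * (g' ^ (k + 1))⁻¹ = g' * (g' ^ k * t * (g' ^ k)⁻¹) * g'⁻¹ := by
              rw [pow_succ']; group
          _ = (g' * a ^ k * g'⁻¹) * (g' * t * g'⁻¹) := by rw [ihk]; group
          _ = a ^ k * (a * t) := by rw [← conj_pow, hfa, ha, commutatorElement_def, inv_mul_cancel_right]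
          _ = a ^ (k + 1) * t := by rw [pow_succ, mul_assoc]
    have h1 := hk m
    rw [hg'n t ht, right_eq_mul] at h1
    exact orderOf_eq_one_iff.1 (Nat.eq_one_of_dvd_coprimes (hm.pow_right e) (orderOf_dvd_of_pow_eq_one h1)
      (orderOf_dvd_of_pow_eq_one (hWexp a (hW₀W hc))))
  have hperiod : ∀ {k k' : ℕ}, k ≡ k' [MOD m] → ∀ v ∈ T', ((q g ^ k : Gm) : MulAut V) v = ((q g ^ k' : Gm) : MulAut V) v := by
    have hbase : ∀ j r : ℕ, ∀ v ∈ T', ((q g ^ (r + m * j) : Gm) : MulAut V) v = ((q g ^ r : Gm) : MulAut V) v := by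
      intro j
      induction j with
      | zero => simp
      | succ j ihj =>
        intro r v hv
        rw [show r + m * (j + 1) = (r + m * j) + m by ring, pow_add, Subgroup.coe_mul, MulAut.mul_apply,
          show ((q g ^ m : Gm) : MulAut V) v = v from hhm v hv, ihj r v hv]
    intro k k' hkk v hv
    have e1 := hbase (k / m) (k % m) v hv
    have e2 := hbase (k' / m) (k' % m) v hv
    rw [Nat.mod_add_div] at e1 e2
    rw [e1, e2, show k % m = k' % m from hkk]
  have hpe : (p ^ e).Coprime m := (hm.symm).pow_left e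
  refine ⟨g', hg'T, ⟨m, hm, hg'n⟩, ?_, ?_⟩
  · by_contra hall
    push Not at hall
    obtain ⟨t, ht, rfl⟩ := hv₁
    obtain ⟨z, hz1, hz0⟩ := Nat.chineseRemainder hpe.symm 1 0
    obtain ⟨d, rfl⟩ := (Nat.modEq_zero_iff_dvd).1 hz0
    apply hmov
    show ((q g : Gm) : MulAut V) (π t) = π t
    have h := hperiod hz1 (π t) (mem_map_of_mem π ht)
    rw [pow_one] at h
    rw [← h, show t = ⟨(t : G), t.2⟩ from rfl, hgV, pow_mul]
    refine congrArg π (Subtype.ext ?_)
    show g' ^ d * (t : G) * (g' ^ d)⁻¹ = t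
    clear h hz1 hz0
    induction d with
    | zero => simp
    | succ d ihd =>
      rw [pow_succ', show g' * g' ^ d * (t : G) * (g' * g' ^ d)⁻¹ = g' * (g' ^ d * (t : G) * (g' ^ d)⁻¹) * g'⁻¹ by group,
        ihd, hall t ht]
  intro s hs s' hs' hne hne'
  -- commutators with a power
  have hred : ∀ (j : ℕ) (t : G), t ∈ T → ∃ r ∈ T, ⁅g ^ j, t⁆ = ⁅g, r⁆ := by
    intro j
    induction j with
    | zero => exact fun t _ => ⟨1, one_mem T, by simp⟩
    | succ j ihj =>
      intro t ht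
      obtain ⟨r, hr, e1⟩ := ihj t ht
      set r2 := g ^ j * t * (g ^ j)⁻¹
      have hr2 : r2 ∈ T := hgT j t ht
      refine ⟨r2 * r, mul_mem hr2 hr, ?_⟩
      have hgr : ⁅g, r⁆ ∈ W := hTW (mul_mem (by simpa using hgT 1 r hr) (inv_mem hr))
      calc ⁅g ^ (j + 1), t⁆ = ⁅g, r2⁆ * ⁅g ^ j, t⁆ := by
            simp only [r2, commutatorElement_def, pow_succ']; group
        _ = ⁅g, r2⁆ * ⁅g, r⁆ := by rw [e1]
        _ = ⁅g, r2⁆ * (r2 * ⁅g, r⁆ * r2⁻¹) := by rw [(hW r2 (hTW hr2) _ hgr).eq, mul_inv_cancel_right]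
        _ = ⁅g, r2 * r⁆ := by simp only [commutatorElement_def]; group
  have hcv : ∀ (r : G) (hr : r ∈ T), (Gm.subtype (q g)) (π ⟨r, hTW hr⟩) * (π ⟨r, hTW hr⟩)⁻¹ =
      π ⟨⁅g, r⁆, hTW (mul_mem (by simpa using hgT 1 r hr) (inv_mem hr))⟩ := by
    intro r hr
    have h := hgV 1 r (hTW hr)
    rw [pow_one] at h
    rw [Subgroup.coe_subtype, h, ← map_inv, ← map_mul]
    exact congrArg π (Subtype.ext (by
      show g ^ 1 * r * (g ^ 1)⁻¹ * r⁻¹ = ⁅g, r⁆
      rw [pow_one, commutatorElement_def]))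
  obtain ⟨r, hr, er⟩ := hred (p ^ e) s hs
  obtain ⟨r', hr', er'⟩ := hred (p ^ e) s' hs'
  have hnz : ∀ (t r : G), t ∈ T → ∀ hr : r ∈ T, ⁅g', t⁆ = ⁅g, r⁆ → ⁅g', t⁆ ≠ 1 →
      (Gm.subtype (q g)) (π ⟨r, hTW hr⟩) * (π ⟨r, hTW hr⟩)⁻¹ ≠ 1 := by
    intro t r ht hr e1 hne e2
    rw [hcv r hr] at e2
    have h := (QuotientGroup.eq_one_iff _).1 e2
    exact hne (hfree t ht (by rw [e1]; exact h))
  obtain ⟨k, hk⟩ := htrans (π ⟨r, hTW hr⟩) (mem_map_of_mem π hr) (π ⟨r', hTW hr'⟩) (mem_map_of_mem π hr')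
    (hnz s r hs hr er hne) (hnz s' r' hs' hr' er' hne')
  rw [hcv r hr, hcv r' hr'] at hk
  obtain ⟨z, hzk, hz0⟩ := Nat.chineseRemainder hpe.symm k 0
  obtain ⟨d, rfl⟩ := (Nat.modEq_zero_iff_dvd).1 hz0
  refine ⟨d, ?_⟩
  set a := ⁅g', s⁆
  set b := ⁅g', s'⁆
  have haW : a ∈ W := hTW (mul_mem (hg'T s hs) (inv_mem hs))
  have hbW : b ∈ W := hTW (mul_mem (hg'T s' hs') (inv_mem hs'))
  have hab : π ⟨g' ^ d * a * (g' ^ d)⁻¹, hWn.conj_mem a haW _⟩ = π ⟨b, hbW⟩ := by
    have h1 : π ⟨⁅g, r⁆, hTW (mul_mem (by simpa using hgT 1 r hr) (inv_mem hr))⟩ ∈ T' :=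
      mem_map_of_mem π (show ⁅g, r⁆ ∈ T from mul_mem (by simpa using hgT 1 r hr) (inv_mem hr))
    have h2 := hperiod hzk _ h1
    rw [show ((q g ^ k : Gm) : MulAut V) _ = _ from hk, hgV] at h2
    simp only [hg', ← pow_mul, show a = ⁅g, r⁆ from er, show b = ⁅g, r'⁆ from er']
    exact h2
  have hc := hπeq.1 hab
  set s'' := g' ^ d * s * (g' ^ d)⁻¹
  have hg'd : g' ^ d * s * (g' ^ d)⁻¹ ∈ T := by rw [hg', ← pow_mul]; exact hgT _ s hs
  have ha' : g' ^ d * a * (g' ^ d)⁻¹ = ⁅g', s''⁆ := by simp only [a, s'', commutatorElement_def]; group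
  have hxT : s''⁻¹ * s' ∈ T := mul_mem (inv_mem hg'd) hs'
  have hcom : b = ⁅g', s''⁆ * ⁅g', s''⁻¹ * s'⁆ := by
    have hy : ⁅g', s''⁻¹ * s'⁆ ∈ W := hTW (mul_mem (hg'T _ hxT) (inv_mem hxT))
    calc b = ⁅g', s''⁆ * (s'' * ⁅g', s''⁻¹ * s'⁆ * s''⁻¹) := by simp only [b, commutatorElement_def]; group
      _ = _ := by rw [(hW s'' (hTW hg'd) _ hy).eq, mul_inv_cancel_right]
  have h1 : ⁅g', s''⁻¹ * s'⁆ = 1 := hfree _ hxT (by
    have hc' : (g' ^ d * a * (g' ^ d)⁻¹)⁻¹ * b ∈ W₀ := hc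
    rwa [ha', hcom, inv_mul_cancel_left] at hc')
  rw [ha', hcom, h1, mul_one]

end CfsgLib.CentralWeak
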