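import Cfsg.Agent.Lib.Fusion.FunctorGroup
import Cfsg.Agent.Lib.Fusion.ThompsonQuad
import Cfsg.Agent.Lib.CentralWeak.Group

/-!
# Central subgroups of a Sylow group that are locally stable are weakly closed
-/

set_option autoImplicit false
set_option linter.style.haveILetI false
set_option linter.unusedVariables false
set_option linter.unusedSectionVars false
set_option maxHeartbeats 1000000

universe u

namespace CfsgLib.CentralWeak

open Cfsg Cfsg.FusionSystem Subgroup CfsgLib.Fusion
open scoped commutatorElement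

variable {Ω : Type u} [Group Ω] {S : Subgroup Ω} {F : FusionSystem S}
  {P Q R T : Subgroup Ω} {f g : Ω → Ω} {p : ℕ} [Fact p.Prime] [Finite S]

/-- The automorphisms in `F` of every subgroup with larger normalizer than `U` stabilise `T`. -/
def StableAbove (F : FusionSystem S) (T U : Subgroup Ω) : Prop :=
  ∀ V : Subgroup Ω, V ≤ S → Nat.card (normalizerIn S U) < Nat.card (normalizerIn S V) → T ≤ V →
    ∀ α ∈ F.autGroup V, ∀ t ∈ T, ∀ ht : t ∈ V, ((α ⟨t, ht⟩ : V) : Ω) ∈ T

/-- A subgroup of the centre of `S` stabilised locally is weakly closed. -/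
theorem weaklyClosed_of_local (hS : IsPGroup p S) (hF : F.IsSaturated p)
    (hT : T ≤ S ⊓ Subgroup.centralizer (S : Set Ω))
    (hloc : ∀ U, F.IsCentric U → F.IsFullyNormalized U → T ≤ U → StableAbove F T U →
      ∀ α ∈ F.autGroup U, ∀ t ∈ T, ∀ ht : t ∈ U, ((α ⟨t, ht⟩ : U) : Ω) ∈ T) :
    F.WeaklyClosed T := by
  have hTS : T ≤ S := hT.trans inf_le_left
  haveI := finite_of_le hTS
  have hN : normalizerIn S T = S := by
    refine inf_eq_left.2 fun a ha x => ⟨fun hx => ?_, fun hx => ?_⟩
    · rwa [(hT hx).2 a ha, mul_inv_cancel_right]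
    · have h := (hT hx).2 a ha
      have e : x = a * x * a⁻¹ := by
        calc x = a⁻¹ * ((a * x * a⁻¹) * a) := by group
          _ = a⁻¹ * (a * (a * x * a⁻¹)) := by rw [h]
          _ = _ := by group
      rwa [e]
  set E := castSys hN (normalizerSys F T hTS) with hE
  have hiff : ∀ {P : Subgroup Ω} {f : Ω → Ω}, IsMap E P f ↔ P ≤ S ∧ (∀ x ∈ P, f x ∈ S) ∧
      ∃ g, IsMap F (P ⊔ T) g ∧ (∀ x ∈ P, g x = f x) ∧ img T g = T := by
    intro P f
    rw [hE, isMap_castSys, isMap_normalizerSystem_iff (isNormalizerSystem_normalizerSys F T hTS),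
      hN]
  have hfix : ∀ {P : Subgroup Ω} {f : Ω → Ω}, IsMap E P f → T ≤ P → ∀ t ∈ T, f t ∈ T := by
    intro P f hf hTP t ht
    obtain ⟨-, -, g, hg, hgx, hgT⟩ := hiff.1 hf
    rw [← hgx t (hTP ht)]
    exact hgT.le ((hg.mono le_sup_right).apply_mem_img ht)
  have hmk : ∀ {P : Subgroup Ω} {f : Ω → Ω}, IsMap F P f → T ≤ P → (∀ t ∈ T, f t ∈ T) →
      IsMap E P f := by
    intro P f hf hTP hfT
    refine hiff.2 ⟨hf.le, fun x hx => hf.mem hx, f, by rwa [sup_eq_left.2 hTP], fun _ _ => rfl, ?_⟩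
    refine eq_of_le_of_card_le (fun y hy => ?_) (hf.mono hTP).card_img.ge
    obtain ⟨x, hx, rfl⟩ := (hf.mono hTP).mem_img.1 hy
    exact hfT x hx
  have hcT : ∀ R, F.IsCentric R → T ≤ R := fun R hR t ht =>
    hR.2 R (isConj_refl hR.1) ⟨hTS ht, fun y hy => (hT ht).2 y (hR.1 hy)⟩
  have hle : F ≤ E := by
    refine alperin_inductive hS hF fun R hR hlarge => ?_
    haveI := finite_of_le hR.1
    by_cases hRc : F.IsCentric R
    · have hTR := hcT R hRc
      suffices h : ∀ α ∈ F.autGroup R, ∀ t ∈ T, ∀ ht : t ∈ R, ((α ⟨t, ht⟩ : R) : Ω) ∈ T by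
        intro α hα
        refine (autGroup_iff_isMap hR.1 fun x => (toFun_aut_apply α x.2).symm).2
          (hmk (isMap_of_autGroup hR.1 hα) hTR fun t ht => ?_)
        rw [toFun_aut_apply α (hTR ht)]
        exact h α hα t ht _
      rcases hR.1.eq_or_lt with rfl | hRS
      · refine hloc R hRc hR hTR fun V hV hlt => absurd hlt (not_lt.2 ?_)
        rw [show normalizerIn R R = R from inf_eq_left.2 Subgroup.le_normalizer]
        exact Subgroup.card_le_of_le inf_le_left
      have inner : ∀ n, ∀ U : Subgroup Ω, U ≤ S → T ≤ U →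
          Nat.card R < Nat.card (normalizerIn S U) →
          (Nat.card S + 1) * (Nat.card S + 1) -
            (Nat.card (normalizerIn S U) * (Nat.card S + 1) + Nat.card U) = n →
          ∀ α ∈ F.autGroup U, ∀ t ∈ T, ∀ ht : t ∈ U, ((α ⟨t, ht⟩ : U) : Ω) ∈ T := by
        intro n
        induction n using Nat.strong_induction_on with
        | _ n ih =>
          intro U hU hTU hRU hn α hα t htT htU
          have hN1 : Nat.card (normalizerIn S U) ≤ Nat.card S := Subgroup.card_le_of_le inf_le_left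
          have hU1 : Nat.card U ≤ Nat.card S := Subgroup.card_le_of_le hU
          haveI := finite_of_le hU
          by_cases hUn : F.IsFullyNormalized U
          · by_cases hUc : F.IsCentric U
            · refine hloc U hUc hUn hTU (fun V hV hlt hTV β hβ s hs hsV => ?_) α hα t htT htU
              have hV1 : Nat.card (normalizerIn S V) ≤ Nat.card S :=
                Subgroup.card_le_of_le inf_le_left
              have hV2 : Nat.card V ≤ Nat.card S := Subgroup.card_le_of_le hV
              exact ih _ (hn ▸ lex_measure_lt hV1 hU1 hV2 (Or.inl hlt)) V hV hTV (lt_trans hRU hlt)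
                rfl β hβ s hs hsV
            · -- pass to `U C_S(U)`
              set Q := U ⊔ centralizerIn S U with hQdef
              have hQS : Q ≤ S := sup_le hU inf_le_left
              haveI := finite_of_le hQS
              have hUQ : U < Q := by
                refine lt_of_le_of_ne le_sup_left fun he => hUc ?_
                exact centric_of_fullyCentralized hS hF (fullyCentralized_of_fullyNormalized hS hF hUn)
                  ((le_sup_right : centralizerIn S U ≤ Q).trans he.ge)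
              have hm := isMap_of_autGroup hU hα
              obtain ⟨g, hg, hgx⟩ := receptive_extend_centralizer
                (receptive_of_fullyNormalized hS hF hUn) hm (img_toFun_aut α)
              have hgi : img Q g = Q := by
                refine eq_of_le_of_card_le ?_ hg.card_img.ge
                have hgU : img U g = U := (img_congr hgx).trans (img_toFun_aut α)
                refine hg.img_sup_le le_sup_left le_sup_right (hgU.le.trans le_sup_left) ?_
                intro y hy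
                obtain ⟨x, hx, rfl⟩ := (hg.mono le_sup_right).mem_img.1 hy
                have h1 := hg.apply_mem_centralizerIn le_sup_left (Subgroup.mem_sup_right hx) hx.2
                rw [hgU] at h1
                exact Subgroup.mem_sup_right h1
              have hNle : normalizerIn S U ≤ normalizerIn S Q := normalizerIn_le_sup_centralizer U
              haveI := finite_normalizerIn (S := S) (P := Q)
              have h4 : Nat.card (normalizerIn S U) ≤ Nat.card (normalizerIn S Q) :=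
                Subgroup.card_le_of_le hNle
              have h5 : Nat.card U < Nat.card Q :=
                lt_of_not_ge fun h => hUQ.ne (eq_of_le_of_card_le hUQ.le h)
              have h6 : Nat.card (normalizerIn S Q) ≤ Nat.card S :=
                Subgroup.card_le_of_le inf_le_left
              have h7 : Nat.card Q ≤ Nat.card S := Subgroup.card_le_of_le hQS
              have h8 := ih _ (hn ▸ lex_measure_lt h6 hU1 h7 (Or.inr ⟨h4, h5⟩)) Q hQS
                (hTU.trans le_sup_left) (lt_of_lt_of_le hRU h4) rfl _ (hg.toAut_mem hgi) t htT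
                (Subgroup.mem_sup_left htU)
              rw [hg.toAut_apply, hgx t htU, toFun_aut_apply α htU] at h8
              exact h8
          · -- pass to a fully normalized conjugate
            obtain ⟨U', hUU', hU'⟩ := exists_fullyNormalized_conj F hU
            obtain ⟨ψ, hψ, hψi, hψN⟩ :=
              exists_map_normalizerIn_of_fullyNormalized hS hF hU' hUU'
            have hψE : IsMap E (normalizerIn S U) ψ := hlarge _ ψ hψ hRU
            have hTN : T ≤ normalizerIn S U := hTU.trans (le_normalizerIn hU)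
            have hψT : ∀ s ∈ T, ψ s ∈ T := hfix hψE hTN
            have hψTi : img T ψ = T := by
              refine eq_of_le_of_card_le (fun y hy => ?_) (hψ.mono hTN).card_img.ge
              obtain ⟨x, hx, rfl⟩ := (hψ.mono hTN).mem_img.1 hy
              exact hψT x hx
            subst hψi
            have hlt : Nat.card (normalizerIn S U) < Nat.card (normalizerIn S (img U ψ)) := by
              by_contra hge
              refine hUn ⟨hU, fun V hV => ?_⟩
              exact (hU'.2 V (isConj_trans (isConj_symm hUU') hV)).trans (not_lt.1 hge)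
            have hψU := hψ.mono (le_normalizerIn hU)
            have h6 : Nat.card (normalizerIn S (img U ψ)) ≤ Nat.card S :=
              Subgroup.card_le_of_le inf_le_left
            have h7 := hψU.card_img
            have htU' : ψ t ∈ img U ψ := hψU.apply_mem_img htU
            have h8 := ih _ (hn ▸ lex_measure_lt h6 hU1 (h7.le.trans hU1) (Or.inl hlt)) _ hψU.img_le
              (hψTi.ge.trans (img_mono hTU)) (lt_trans hRU hlt) rfl _
              (hψU.congr_mem_autGroup hα) (ψ t) (hψT t htT) htU'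
            have e : hψU.equivImg.symm ⟨ψ t, htU'⟩ = ⟨t, htU⟩ := by
              rw [MulEquiv.symm_apply_eq]
              exact Subtype.ext rfl
            have h9 : ψ ((α ⟨t, htU⟩ : U) : Ω) ∈ T := by
              rw [← e]
              exact h8
            obtain ⟨s, hs, hse⟩ := (hψ.mono hTN).mem_img.1 (hψTi.ge h9)
            rwa [← hψU.inj (hTU hs) (α ⟨t, htU⟩).2 hse]
      intro α hα
      haveI := finite_normalizerIn (S := S) (P := R)
      have hlt : Nat.card R < Nat.card (normalizerIn S R) := lt_of_not_ge fun h =>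
        (lt_normalizerIn hS hRS).ne (eq_of_le_of_card_le (le_normalizerIn hR.1) h)
      exact inner _ R hR.1 hTR hlt rfl α hα
    · rw [← extAut_eq_of_not_centric hS hF hR hRc]
      refine (Subgroup.closure_le _).2 fun β hβ => ?_
      obtain ⟨V, hRV, g, hg, hgx⟩ := hβ
      haveI := finite_of_le hg.le
      have hlt : Nat.card R < Nat.card V :=
        lt_of_not_ge fun h => hRV.ne (eq_of_le_of_card_le hRV.le h)
      exact (autGroup_iff_isMap hR.1 fun x => (hgx x).symm).2 ((hlarge _ g hg hlt).mono hRV.le)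
  refine ⟨hTS, fun φ hφ => ?_⟩
  have hm := isMap_of_hom hφ
  have hmE := le_iff_isMap.1 hle _ _ hm
  haveI : Finite φ.range := finite_of_le (fun y => by rintro ⟨x, rfl⟩; exact (F.le_of_mem hφ).2 x)
  have h1 : img T (toFun φ) = T := by
    refine eq_of_le_of_card_le (fun y hy => ?_) hm.card_img.ge
    obtain ⟨x, hx, rfl⟩ := hm.mem_img.1 hy
    exact hfix hmE le_rfl x hx
  have h2 : φ = hm.toHom := MonoidHom.ext fun x => (toFun_apply φ x).symm
  exact (congrArg MonoidHom.range h2).trans (hm.range_toHom.trans h1)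

/-- The maps normalising `J(S)` stabilise `T`, when the normalizer of `J(S)` lies in that of `T`. -/
theorem stable_of_thompson (hS : IsPGroup p S) (hT : T ≤ S)
    (hJT : ∀ NJ : FusionSystem (normalizerIn S (Cfsg.thompsonSubgroupAOf S)),
      F.IsNormalizerSystem (Cfsg.thompsonSubgroupAOf S) NJ →
      ∀ NT : FusionSystem (normalizerIn S T), F.IsNormalizerSystem T NT → NJ.IsSubsystemOf NT)
    (hf : IsMap F P f) (hJP : Cfsg.thompsonSubgroupAOf S ≤ P) (hTP : T ≤ P)
    (hJf : img (Cfsg.thompsonSubgroupAOf S) f = Cfsg.thompsonSubgroupAOf S) :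
    ∀ t ∈ T, f t ∈ T := by
  have hJS : Cfsg.thompsonSubgroupAOf S ≤ S := Subgroup.map_subtype_le _
  have hNS := normalizerIn_funcOn_top (fun Q _ => Cfsg.thompsonSubgroupA Q)
    (fun Q R _ _ _ _ φ => thompsonA_map Q R φ) hS
  have hJsys := isNormalizerSystem_normalizerSys F (Cfsg.thompsonSubgroupAOf S) hJS
  have hTsys := isNormalizerSystem_normalizerSys F T hT
  have hsub := hJT _ hJsys _ hTsys
  have h1 : IsMap (normalizerSys F (Cfsg.thompsonSubgroupAOf S) hJS) T f :=
    (isMap_normalizerSystem_iff hJsys).2 ⟨fun x hx => hNS.ge (hT hx),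
      fun x hx => hNS.ge (hf.mem (hTP hx)), f, hf.mono (sup_le hTP hJP), fun _ _ => rfl, hJf⟩
  obtain ⟨φ, hφ, hφf⟩ := h1
  have h2 : IsMap (normalizerSys F T hT) T f := ⟨φ, hsub T hφ, hφf⟩
  obtain ⟨-, -, g, hg, hgx, hgT⟩ := (isMap_normalizerSystem_iff hTsys).1 h2
  intro t ht
  rw [← hgx t ht]
  exact hgT.le ((hg.mono le_sup_right).apply_mem_img ht)

/-- A subgroup of `Z(S)` stabilised by the normalizer of `J(S)` is weakly closed, or has a cyclic
group of automorphisms of order prime to `p` transitive on its commutators. -/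
theorem weaklyClosed_or_transitive (hp : p ≠ 2) (hS : IsPGroup p S) (hF : F.IsSaturated p)
    (hT : T ≤ S ⊓ Subgroup.centralizer (S : Set Ω))
    (hJT : ∀ NJ : FusionSystem (normalizerIn S (Cfsg.thompsonSubgroupAOf S)),
      F.IsNormalizerSystem (Cfsg.thompsonSubgroupAOf S) NJ →
      ∀ NT : FusionSystem (normalizerIn S T), F.IsNormalizerSystem T NT → NJ.IsSubsystemOf NT) :
    F.WeaklyClosed T ∨ ∃ X : Subgroup (MulAut ↥T), X ≤ F.autGroup T ∧ X ≠ ⊥ ∧ IsCyclic ↥X ∧
      (Nat.card ↥X).Coprime p ∧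
      ∀ a b : ↥T, a ∈ Subgroup.closure {y : ↥T | ∃ ψ ∈ X, ∃ t : ↥T, y = ψ t * t⁻¹} →
        b ∈ Subgroup.closure {y : ↥T | ∃ ψ ∈ X, ∃ t : ↥T, y = ψ t * t⁻¹} →
        a ≠ 1 → b ≠ 1 → ∃ ψ ∈ X, ψ a = b := by
  classical
  refine or_iff_not_imp_right.2 fun hno => weaklyClosed_of_local hS hF hT
    fun U hUc hUn hTU habove α hα t₀ ht₀ ht₀U => ?_
  set W : ∀ (Q : Type u) [Group Q], Subgroup Q := fun Q _ => Cfsg.thompsonSubgroupA Q with hW
  have hW2 : ∀ (Q R : Type u) [Group Q] [Group R] [Finite Q], IsPGroup p Q → ∀ φ : Q ≃* R,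
    (W Q).map φ.toMonoidHom = W R := fun Q R _ _ _ _ φ => thompsonA_map Q R φ
  have hTS : T ≤ S := hT.trans inf_le_left
  haveI : Finite T := finite_of_le hTS
  haveI : Finite ↥(normalizerIn S U) := finite_normalizerIn
  have hNS : normalizerIn S U ≤ S := inf_le_left
  have hNp : IsPGroup p (normalizerIn S U) := hS.to_le hNS
  have hUN : U ≤ normalizerIn S U := le_normalizerIn hUn.1
  have hTN : T ≤ normalizerIn S U := hTU.trans hUN
  have hE := isNormalizerSystem_normalizerSys F U hUn.1
  obtain ⟨G, hgrp, ι, hfin, hr, ⟨Ps, hPs⟩, hUnorm, hUcent⟩ :=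
    Model.exists_model_normalizer F hS hF hUc hUn hE
  haveI := hfin
  set Ti : Subgroup G := (T.subgroupOf (normalizerIn S U)).map ι with hTi
  set Ui : Subgroup G := (U.subgroupOf (normalizerIn S U)).map ι with hUi
  set J := funcOn W (normalizerIn S U) with hJdef
  have hTJ : T ≤ J := fun z hz => ⟨⟨z, hTN hz⟩, center_le_thompsonA _
    (Subgroup.mem_center_iff.2 fun x => Subtype.ext ((hT hz).2 x (hNS x.2))), rfl⟩
  have hJN : J ≤ normalizerIn S U := funcOn_le W _
  have hL : Subgroup.normalizer (((J.subgroupOf (normalizerIn S U)).map ι : Subgroup G) : Set G) ≤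
      Subgroup.normalizer (Ti : Set G) := by
    intro g hgM
    have hU₁ : U ⊔ J ≤ normalizerIn S U := sup_le hUN hJN
    have hmem : U ⊔ J ≤ preimage ι (ι.range.comap (MulAut.conj g).toMonoidHom) := by
      refine sup_le (fun u hu => ?_) (fun w hw => ?_)
      · refine mem_preimage.2 ⟨hUN hu, ?_⟩
        obtain ⟨v, -, hv⟩ := hUnorm.conj_mem _ ⟨⟨u, hUN hu⟩, hu, rfl⟩ g
        exact ⟨v, hv⟩
      · refine mem_preimage.2 ⟨hJN hw, ?_⟩
        obtain ⟨v, -, hv⟩ := (hgM _).1 ⟨⟨w, hJN hw⟩, hw, rfl⟩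
        exact ⟨v, hv⟩
    obtain ⟨f, hf, hfx⟩ := realized_exists_map hr hU₁ g fun x hx =>
      (mem_preimage.1 (hmem hx)).2
    obtain ⟨-, -, f', hf', hf'x, -⟩ := (isMap_normalizerSystem_iff hE).1 hf
    have hfU : IsMap F (U ⊔ J) f := (hf'.mono le_sup_left).congr hf'x
    have hJi : img J f = J := by
      haveI : Finite J := finite_of_le (hJN.trans hNS)
      refine eq_of_le_of_card_le (fun y hy => ?_) (hfU.mono le_sup_right).card_img.ge
      obtain ⟨w, hw, rfl⟩ := (hfU.mono le_sup_right).mem_img.1 hy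
      obtain ⟨hw', he⟩ := hfx w (Subgroup.mem_sup_right hw)
      obtain ⟨v, hv, hvι⟩ := (hgM _).1 ⟨⟨w, hJN hw⟩, hw, rfl⟩
      rw [hr.1 (hvι.trans he.symm)] at hv
      exact hv
    have hfT : ∀ t ∈ T, f t ∈ T := by
      rcases hNS.eq_or_lt with hNeq | hlt
      · have hJeq : J = Cfsg.thompsonSubgroupAOf S := by rw [hJdef, hNeq]; rfl
        rw [hJeq] at hJi
        exact stable_of_thompson hS hTS hJT hfU (hJeq.ge.trans le_sup_right)
          (hTU.trans le_sup_left) hJi
      · have hlt' : Nat.card (normalizerIn S U) < Nat.card (normalizerIn S J) := by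
          haveI : Finite ↥(normalizerIn S J) := finite_normalizerIn
          have h1 := lt_of_lt_of_le (lt_normalizerIn hS hlt) (normalizer_le_funcOn W hW2 hS hNS)
          exact lt_of_not_ge fun h => h1.ne (eq_of_le_of_card_le h1.le h)
        intro t ht
        have hm := hfU.mono (le_sup_right : J ≤ U ⊔ J)
        have h2 := habove _ (hJN.trans hNS) hlt' hTJ _ (hm.toAut_mem hJi) t ht (hTJ ht)
        rwa [hm.toAut_apply] at h2
    refine Subgroup.mem_normalizer_fintype fun x hx => ?_
    obtain ⟨t, ht, rfl⟩ := hx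
    obtain ⟨hftN, hft⟩ := hfx t (Subgroup.mem_sup_left (hTU ht))
    exact ⟨⟨f t, hftN⟩, hfT t ht, hft⟩
  by_cases hTn : Ti.Normal
  · have hαE : IsMap (normalizerSys F U hUn.1) U (toFun (U.subtype.comp α.toMonoidHom)) := by
      refine (isMap_normalizerSystem_iff hE).2 ⟨hUN, fun x hx => ?_, _, ?_,
        fun _ _ => rfl, img_toFun_aut α⟩
      · rw [toFun_aut_apply α hx]
        exact hUN (α ⟨x, hx⟩).2
      · rw [sup_idem]
        exact isMap_of_autGroup hUn.1 hα
    obtain ⟨g, hg⟩ := realized_exists_elem hr hαE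
    have hv : toFun (U.subtype.comp α.toMonoidHom) t₀ ∈ normalizerIn S U := by
      rw [toFun_aut_apply α ht₀U]; exact hUN (α ⟨t₀, ht₀U⟩).2
    have h3 := hg t₀ ht₀U (hTN ht₀) hv
    obtain ⟨v, hv', hve⟩ := hTn.conj_mem _ (Subgroup.mem_map_of_mem ι
      (show (⟨t₀, hTN ht₀⟩ : normalizerIn S U) ∈ T.subgroupOf _ from ht₀)) g
    have h4 := hr.1 (hve.trans h3.symm)
    rw [h4] at hv'
    have hv'' : toFun (U.subtype.comp α.toMonoidHom) t₀ ∈ T := hv'
    rwa [toFun_aut_apply α ht₀U] at hv''
  -- the normalizer of the image of `T` is proper: extract the automorphism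
  exfalso
  refine hno ?_
  have hUip : IsPGroup p Ui := Ps.isPGroup'.to_le (hPs ▸ Subgroup.map_le_range ι _)
  obtain ⟨h, hh1, ⟨n, hn, hh2⟩, ⟨-, ⟨t₁, ht₁, rfl⟩, hh3⟩, hh4⟩ :=
    exists_transitive hp _ Ps Ui rfl hUnorm hUip Ti
      (Subgroup.map_mono fun x hx => hTU hx)
      (by
        rintro s hs _ ⟨t, ht, rfl⟩
        rw [hPs] at hs
        obtain ⟨s', rfl⟩ := hs
        rw [← map_mul, ← map_mul]
        exact congrArg ι (Subtype.ext ((hT ht).2 s' (hNS s'.2))))
      (by
        have e := funcOn_map_embedding W hW2 hNp hr.1 hPs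
        rw [show Cfsg.thompsonSubgroupAOf (Ps : Subgroup G) =
          (W ↥(Ps : Subgroup G)).map (Ps : Subgroup G).subtype from rfl, e]
        exact hL) hTn
  obtain ⟨f, hf, hfx⟩ := realized_exists_map hr hUN h fun x hx => by
    obtain ⟨v, -, hv⟩ := hUnorm.conj_mem _ ⟨⟨x, hUN hx⟩, hx, rfl⟩ h
    exact ⟨v, hv⟩
  obtain ⟨-, -, f', hf', hf'x, -⟩ := (isMap_normalizerSystem_iff hE).1 hf
  have hfT : IsMap F T f := ((hf'.mono le_sup_left).congr hf'x).mono hTU
  have hi : img T f = T := by
    refine eq_of_le_of_card_le (fun y hy => ?_) hfT.card_img.ge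
    obtain ⟨x, hx, rfl⟩ := hfT.mem_img.1 hy
    obtain ⟨hxN, hxe⟩ := hfx x (hTU hx)
    obtain ⟨v, hv, hve⟩ := hh1 _ (Subgroup.mem_map_of_mem ι
      (show (⟨x, hTN hx⟩ : normalizerIn S U) ∈ T.subgroupOf _ from hx))
    rw [hr.1 (hve.trans hxe.symm)] at hv
    exact hv
  set ψ : MulAut T := hfT.toAut hi with hψ
  let j : T →* G := ι.comp (Subgroup.inclusion hTN)
  have hj : Function.Injective j := hr.1.comp (Subgroup.inclusion_injective hTN)
  have hjmem : ∀ t : T, j t ∈ Ti := fun t => Subgroup.mem_map_of_mem ι t.2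
  have hj1 : ∀ t : T, j (ψ t) = h * j t * h⁻¹ := by
    intro t
    obtain ⟨hxN, hxe⟩ := hfx t (hTU t.2)
    exact (congrArg ι (Subtype.ext (hfT.toAut_apply hi t))).trans hxe
  have hjk : ∀ (k : ℕ) (t : T), j ((ψ ^ k) t) = h ^ k * j t * (h ^ k)⁻¹ := by
    intro k
    induction k with
    | zero => intro t; simp
    | succ k ih => intro t; rw [pow_succ', MulAut.mul_apply, hj1, ih, pow_succ']; group
  have hψn : ψ ^ n = 1 := MulEquiv.ext fun t => hj (by rw [hjk, hh2 _ (hjmem t)]; rfl)
  have hn0 : 0 < n := Nat.pos_of_ne_zero fun h0 => by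
    subst h0
    exact (Fact.out : p.Prime).ne_one (Nat.coprime_zero_left p |>.1 hn)
  have hfo : IsOfFinOrder ψ := isOfFinOrder_iff_pow_eq_one.2 ⟨n, hn0, hψn⟩
  have hcomm : ∀ a b : T, a * b = b * a := fun a b =>
    Subtype.ext ((hT b.2).2 a (hTS a.2))
  let K : Subgroup T :=
    { carrier := {a | ∃ r, a = ψ r * r⁻¹}
      one_mem' := ⟨1, by simp⟩
      mul_mem' := by
        rintro _ _ ⟨r, rfl⟩ ⟨r', rfl⟩
        refine ⟨r * r', ?_⟩
        rw [map_mul, mul_inv_rev]
        calc ψ r * r⁻¹ * (ψ r' * r'⁻¹) = ψ r * (r⁻¹ * (ψ r' * r'⁻¹)) := by group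
          _ = ψ r * ((ψ r' * r'⁻¹) * r⁻¹) := by rw [hcomm r⁻¹ (ψ r' * r'⁻¹)]
          _ = _ := by group
      inv_mem' := by
        rintro _ ⟨r, rfl⟩
        exact ⟨r⁻¹, by rw [map_inv, mul_inv_rev, inv_inv, hcomm]⟩ }
  have hpowK : ∀ (k : ℕ) (t : T), (ψ ^ k) t * t⁻¹ ∈ K := by
    intro k
    induction k with
    | zero => intro t; simp
    | succ k ih =>
      intro t
      rw [pow_succ', MulAut.mul_apply,
        show ψ ((ψ ^ k) t) * t⁻¹ = (ψ ((ψ ^ k) t) * ((ψ ^ k) t)⁻¹) * ((ψ ^ k) t * t⁻¹) by group]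
      exact K.mul_mem ⟨_, rfl⟩ (ih t)
  refine ⟨Subgroup.zpowers ψ, Subgroup.zpowers_le.2 (hfT.toAut_mem hi), ?_, inferInstance, ?_, ?_⟩
  · rw [Ne, Subgroup.zpowers_eq_bot]
    intro h1
    refine hh3 ?_
    show h * j ⟨_, ht₁⟩ * h⁻¹ = j ⟨_, ht₁⟩
    rw [← hj1, h1]
    rfl
  · rw [Nat.card_zpowers]
    exact Nat.Coprime.coprime_dvd_left (orderOf_dvd_of_pow_eq_one hψn) hn
  · have hcl : Subgroup.closure {y : ↥T | ∃ φ ∈ Subgroup.zpowers ψ, ∃ t : ↥T, y = φ t * t⁻¹} ≤ K := by
      refine (Subgroup.closure_le _).2 ?_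
      rintro _ ⟨φ, hφ, t, rfl⟩
      obtain ⟨k, rfl⟩ := hfo.mem_powers_iff_mem_zpowers.2 hφ
      exact hpowK k t
    intro a b ha hb ha1 hb1
    obtain ⟨r, rfl⟩ := hcl ha
    obtain ⟨r', rfl⟩ := hcl hb
    have hc : ∀ r : T, ⁅h, j r⁆ = j (ψ r * r⁻¹) := fun r => by
      rw [commutatorElement_def, map_mul, map_inv, hj1]
    have hne : ∀ r : T, ψ r * r⁻¹ ≠ 1 → ⁅h, j r⁆ ≠ 1 := fun r hr1 he =>
      hr1 (hj (by rw [← hc, he, map_one]))
    obtain ⟨k, hk⟩ := hh4 _ (hjmem r) _ (hjmem r') (hne r ha1) (hne r' hb1)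
    refine ⟨ψ ^ k, Subgroup.pow_mem _ (Subgroup.mem_zpowers ψ) k, hj ?_⟩
    rw [hjk, ← hc, ← hc, hk]

end CfsgLib.CentralWeak
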