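import Cfsg.Agent.Lib.CentralWeak.Torus
import Cfsg.Agent.Lib.Amalgam.LLemma
import Cfsg.Agent.Lib.Amalgam.PEmbed
import Cfsg.Agent.Lib.PLocal.Sylow

/-!
# An offender on a module and a fixed subgroup that is not invariant
-/

set_option autoImplicit false
set_option linter.unusedSectionVars false

namespace CfsgLib.CentralWeak

open Cfsg Subgroup CfsgLib.Amalgam
open scoped commutatorElement

variable {Gm V : Type*} [Group Gm] [CommGroup V]

/-- The fixed points of a set of operators. -/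
def fixV (act : Gm →* MulAut V) (X : Subgroup Gm) : Subgroup V where
  carrier := {v | ∀ x ∈ X, act x v = v}
  one_mem' := fun _ _ => map_one _
  mul_mem' := fun {a b} ha hb x hx => by rw [map_mul, ha x hx, hb x hx]
  inv_mem' := fun {a} ha x hx => by rw [map_inv, ha x hx]

theorem mem_fixV {act : Gm →* MulAut V} {X : Subgroup Gm} {v : V} :
    v ∈ fixV act X ↔ ∀ x ∈ X, act x v = v := Iff.rfl

theorem fixV_anti (act : Gm →* MulAut V) {X Y : Subgroup Gm} (h : X ≤ Y) : fixV act Y ≤ fixV act X :=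
  fun _ hv x hx => hv x (h hx)

variable [Finite Gm] [Finite V] {p : ℕ} [Fact p.Prime] (act : Gm →* MulAut V)

theorem fixV_conj (g : Gm) (X : Subgroup Gm) :
    Nat.card (fixV act (X.map (MulAut.conj g).toMonoidHom)) = Nat.card (fixV act X) := by
  have he : fixV act (X.map (MulAut.conj g).toMonoidHom) = (fixV act X).map (act g).toMonoidHom := by
    ext v
    constructor
    · intro hv
      refine ⟨(act g).symm v, fun x hx => ?_, (act g).apply_symm_apply v⟩
      have h1 := hv (g * x * g⁻¹) ⟨x, hx, rfl⟩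
      rw [map_mul, map_mul, map_inv, MulAut.mul_apply, MulAut.mul_apply, MulAut.inv_apply] at h1
      exact (act g).injective (h1.trans ((act g).apply_symm_apply v).symm)
    · rintro ⟨w, hw, rfl⟩ _ ⟨x, hx, rfl⟩
      show act (g * x * g⁻¹) (act g w) = act g w
      rw [← MulAut.mul_apply, ← map_mul, inv_mul_cancel_right, map_mul, MulAut.mul_apply, hw x hx]
  rw [he, card_map_of_injective (act g).injective]

/-- Every `p`-subgroup of the stabilizer fixes `T` pointwise. -/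
theorem fix_of_pGroup {M : Subgroup Gm} (S : Sylow p Gm) (hSM : (S : Subgroup Gm) ≤ M) {T : Subgroup V}
    (hTS : ∀ s ∈ (S : Subgroup Gm), ∀ t ∈ T, act s t = t) (hMT : ∀ g ∈ M, ∀ t ∈ T, act g t ∈ T)
    {X : Subgroup Gm} (hX : X ≤ M) (hXp : IsPGroup p X) : T ≤ fixV act X := by
  obtain ⟨m, hm, hmX⟩ := exists_conj_le S hSM hX hXp
  intro t ht x hx
  have h1 := hTS _ (hmX x hx) _ (hMT m hm t ht)
  rw [map_mul, map_mul, MulAut.mul_apply, MulAut.mul_apply, map_inv, MulAut.inv_apply,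
    MulEquiv.symm_apply_apply] at h1
  exact (act m).injective h1

set_option maxHeartbeats 1600000 in
/-- The torus for a module. -/
theorem exists_module_torus (hinj : Function.Injective act) (hp : p ≠ 2) (hV : ∀ v : V, v ^ p = 1)
    (S : Sylow p Gm) (T : Subgroup V) (hTS : ∀ s ∈ (S : Subgroup Gm), ∀ t ∈ T, act s t = t)
    (hgen : ∀ U : Subgroup V, T ≤ U → (∀ g, ∀ u ∈ U, act g u ∈ U) → U = ⊤)
    (M : Subgroup Gm) (hM : ∀ g, g ∈ M ↔ ∀ t ∈ T, act g t ∈ T) (hMtop : M ≠ ⊤)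
    (hmax : ∀ X : Subgroup Gm, (S : Subgroup Gm) ≤ X → X ≠ ⊤ → X ≤ M)
    {A₀ : Subgroup Gm} (hA₀S : A₀ ≤ (S : Subgroup Gm)) (hA₀c : ∀ a ∈ A₀, ∀ b ∈ A₀, a * b = b * a)
    (hA₀p : ∀ a ∈ A₀, a ^ p = 1) (hA₀1 : A₀ ≠ ⊥)
    (hoff : Nat.card V ≤ Nat.card A₀ * Nat.card (fixV act A₀)) :
    ∃ h ∈ normalClosure (A₀ : Set Gm), (∀ t ∈ T, act h t ∈ T) ∧
      (∃ n : ℕ, n.Coprime p ∧ ∀ t ∈ T, act (h ^ n) t = t) ∧ (∃ t ∈ T, act h t ≠ t) ∧
      ∀ s ∈ T, ∀ s' ∈ T, act h s * s⁻¹ ≠ 1 → act h s' * s'⁻¹ ≠ 1 →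
        ∃ k : ℕ, act (h ^ k) (act h s * s⁻¹) = act h s' * s'⁻¹ := by
  classical
  have hSM : (S : Subgroup Gm) ≤ M := fun s hs => (hM s).2 fun t ht => by rw [hTS s hs t ht]; exact ht
  have hMT : ∀ g ∈ M, ∀ t ∈ T, act g t ∈ T := fun g hg => (hM g).1 hg
  have hbot : Cfsg.pCore p Gm = ⊥ := by
    haveI hn := CfsgLib.Solvable.pCore_normal p Gm
    have htop : fixV act (Cfsg.pCore p Gm) = ⊤ := by
      refine hgen _ (fun t ht x hx => hTS x (CfsgLib.Solvable.pCore_le_sylow S hx) t ht) fun g u hu x hx => ?_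
      have h1 := hu (g⁻¹ * x * g) (by simpa using hn.conj_mem x hx g⁻¹)
      have h2 := congrArg (act g) h1
      rwa [← MulAut.mul_apply, ← map_mul, show g * (g⁻¹ * x * g) = x * g by group, map_mul,
        MulAut.mul_apply] at h2
    refine eq_bot_iff.2 fun x hx => mem_bot.2 (hinj ?_)
    rw [map_one]
    exact MulEquiv.ext fun v => (htop.ge (mem_top v)) x hx
  -- a minimal offender
  obtain ⟨A, ⟨hAA, hA1, hAoff⟩, hAmin⟩ := Set.exists_min_image
    {A : Subgroup Gm | A ≤ A₀ ∧ A ≠ ⊥ ∧ Nat.card V ≤ Nat.card A * Nat.card (fixV act A)}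
    (fun A => Nat.card A) (Set.toFinite _) ⟨A₀, le_rfl, hA₀1, hoff⟩
  have hstrictA : ∀ X : Subgroup Gm, X ≤ A → X ≠ ⊥ → X ≠ A →
      Nat.card X * Nat.card (fixV act X) < Nat.card V := by
    intro X hX hX1 hne
    by_contra hge
    push Not at hge
    exact hne (eq_of_le_of_card_ge hX (hAmin X ⟨hX.trans hAA, hX1, hge⟩))
  have hAS : A ≤ (S : Subgroup Gm) := hAA.trans hA₀S
  have hAp : IsPGroup p A := S.2.to_le hAS
  -- the `L`-Lemma
  have hwc : normalizer (weakClosure A (S : Subgroup Gm) : Set Gm) ≤ M := by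
    refine hmax _ (le_normalizer.trans (normalizer_le_normalizer_weakClosure A _)) fun htop => hA1 ?_
    have hn : (weakClosure A (S : Subgroup Gm)).Normal := normalizer_eq_top_iff.1 htop
    have := CfsgLib.Solvable.le_pCore hn (S.2.to_le (weakClosure_le A _))
    rw [hbot, le_bot_iff] at this
    exact le_bot_iff.1 ((self_le_weakClosure hAS).trans this.le)
  have hgood : LGood p A M ⊤ := by
    refine ⟨le_top, fun h => hMtop (top_le_iff.1 h), ⟨S, isSylIn_top S, hSM, 1, ?_, ?_⟩, fun P hP hPM n hn => ?_⟩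
    · rintro _ ⟨a, ha, rfl⟩; simpa using hAS ha
    · rw [pCoreOf_top', hbot]
      intro h
      exact hA1 (eq_bot_iff.2 fun a ha => h ⟨a, ha, by simp⟩)
    · obtain ⟨l, hl, hlS⟩ := ((isSylIn_top S).mono (K := M) hSM le_top).exists_conj
        (hP.mono hPM le_top)
      -- transport along `l`
      have h2 : n ∈ normalizer (weakClosure A P : Set Gm) := hn.2
      rw [← hlS, ← map_weakClosure_conj] at h2
      have h3 : l⁻¹ * n * l ∈ normalizer (weakClosure A (S : Subgroup Gm) : Set Gm) := by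
        rw [CfsgLib.PLocal.mem_normalizer_map_conj] at h2 ⊢
        rw [CfsgLib.Coprime.map_conj_conj] at h2
        apply Subgroup.map_injective (f := (MulAut.conj l).toMonoidHom) (MulAut.conj l).injective
        rw [CfsgLib.Coprime.map_conj_conj, show l * (l⁻¹ * n * l) = n * l by group]
        exact h2
      have h4 := mul_mem (mul_mem hl (hwc h3)) (inv_mem hl)
      rwa [show l * (l⁻¹ * n * l) * l⁻¹ = n by group] at h4
  obtain ⟨L, g, -, hBO, hLM, hX, hgenL⟩ := exists_lLemma hAp hgood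
  set B := A.map (MulAut.conj g).toMonoidHom with hBdef
  set O := pCoreOf p L with hOdef
  have hBL : B ≤ L := (le_sup_left.trans hBO).trans inf_le_left
  have hBM : B ≤ M := (le_sup_left.trans hBO).trans inf_le_right
  have hBp : IsPGroup p B := hAp.map _
  have hBoff : Nat.card V ≤ Nat.card B * Nat.card (fixV act B) := by
    rw [hBdef, fixV_conj, CfsgLib.Coprime.card_map_conj]; exact hAoff
  have hBstrict : ∀ X : Subgroup Gm, X ≤ B → X ≠ ⊥ → X ≠ B →
      Nat.card X * Nat.card (fixV act X) < Nat.card V := by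
    intro X hX hX1 hne
    have hc : ∀ Y : Subgroup Gm, (Y.map (MulAut.conj g⁻¹).toMonoidHom).map (MulAut.conj g).toMonoidHom = Y := by
      intro Y
      rw [CfsgLib.Coprime.map_conj_conj, mul_inv_cancel]
      ext y; rw [CfsgLib.Coprime.mem_map_conj]; simp
    have h1 := hstrictA (X.map (MulAut.conj g⁻¹).toMonoidHom) ?_ ?_ ?_
    · rwa [fixV_conj, CfsgLib.Coprime.card_map_conj] at h1
    · rintro _ ⟨x, hx, rfl⟩
      obtain ⟨a, ha, rfl⟩ := hX hx
      simpa [mul_assoc] using ha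
    · intro e; apply hX1; rw [← hc X, e, Subgroup.map_bot]
    · intro e; apply hne; rw [← hc X, e]
  -- the fixed points of `O`
  have hOp : IsPGroup p O := isPGroup_pCoreOf L
  have hOn : L ≤ normalizer (O : Set Gm) := le_normalizer_pCoreOf L
  set W₀ := fixV act O with hW₀
  have hinv : ∀ x ∈ L, ∀ v ∈ W₀, act x v ∈ W₀ := by
    intro x hx v hv o ho
    have h1 := hv (x⁻¹ * o * x) ((Subgroup.mem_normalizer_iff''.1 (hOn hx) o).1 ho)
    have h2 := congrArg (act x) h1
    rwa [← MulAut.mul_apply, ← map_mul, show x * (x⁻¹ * o * x) = o * x by group, map_mul,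
      MulAut.mul_apply] at h2
  have hTW : T ≤ W₀ := fix_of_pGroup act S hSM hTS hMT ((le_sup_right.trans hBO).trans inf_le_right) hOp
  let res : L →* MulAut W₀ :=
    { toFun := fun x =>
        { toFun := fun v => ⟨act x v, hinv x x.2 v v.2⟩
          invFun := fun v => ⟨act (x⁻¹ : L) v, hinv _ (x⁻¹).2 v v.2⟩
          left_inv := fun v => Subtype.ext (by
            show act ((x⁻¹ : L) : Gm) (act (x : Gm) (v : V)) = v
            rw [← MulAut.mul_apply, ← map_mul, Subgroup.coe_inv, inv_mul_cancel, map_one]; rfl)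
          right_inv := fun v => Subtype.ext (by
            show act (x : Gm) (act ((x⁻¹ : L) : Gm) (v : V)) = v
            rw [← MulAut.mul_apply, ← map_mul, Subgroup.coe_inv, mul_inv_cancel, map_one]; rfl)
          map_mul' := fun v w => Subtype.ext (map_mul (act (x : Gm)) (v : V) (w : V)) }
      map_one' := MulEquiv.ext fun v => Subtype.ext (by
        show act ((1 : L) : Gm) (v : V) = v
        rw [Subgroup.coe_one, map_one]; rfl)
      map_mul' := fun x y => MulEquiv.ext fun v => Subtype.ext (by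
        show act ((x * y : L) : Gm) (v : V) = act x (act y v)
        rw [Subgroup.coe_mul, map_mul, MulAut.mul_apply]) }
  have hres : ∀ (x : L) (v : W₀), ((res x v : W₀) : V) = act x v := fun x v => rfl
  have hker : ∀ x : L, res x = 1 → (x : Gm) ∈ M := fun x hx => (hM x).2 fun t ht => by
    rw [← hres x ⟨t, hTW ht⟩, hx]; exact ht
  set R := res.range with hR
  set q : L →* R := res.rangeRestrict with hq
  have hqs : Function.Surjective q := res.rangeRestrict_surjective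
  have hqO : ∀ x : L, (x : Gm) ∈ O → q x = 1 := fun x hx => Subtype.ext (MulEquiv.ext fun v => Subtype.ext (by
    show act (x : Gm) (v : V) = v
    exact v.2 x hx))
  set MR : Subgroup R := ((L ⊓ M).subgroupOf L).map q with hMR
  set BR : Subgroup R := (B.subgroupOf L).map q with hBR
  have hqM : ∀ x : L, q x ∈ MR → (x : Gm) ∈ M := by
    rintro x ⟨y, hy, e⟩
    have hy' : (y : Gm) ∈ M := (mem_inf.1 hy).2
    have h1 : res (y⁻¹ * x) = 1 := by
      have h := congrArg Subtype.val e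
      rw [map_mul, map_inv, inv_mul_eq_one]
      exact h
    have h2 := mul_mem hy' (hker _ h1)
    rwa [Subgroup.coe_mul, Subgroup.coe_inv, mul_inv_cancel_left] at h2
  have hMR' : ∀ x : L, (x : Gm) ∈ M → q x ∈ MR := fun x hx => mem_map_of_mem q (mem_inf.2 ⟨x.2, hx⟩)
  have hBRM : BR ≤ MR := map_mono fun x hx => mem_inf.2 ⟨x.2, hBM hx⟩
  have hMRtop : MR ≠ ⊤ := fun e => hLM.not_ge fun x hx => mem_inf.2 ⟨hx, hqM ⟨x, hx⟩ (e ▸ mem_top _)⟩
  have hBRp : IsPGroup p BR := (hBp.of_equiv (subgroupOfEquivOfLe hBL).symm).map q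
  -- proper overgroups
  have hover : ∀ X : Subgroup R, BR ≤ X → X ≠ ⊤ → X ≤ MR := by
    intro X hBX hXtop r hr
    obtain ⟨x, rfl⟩ := hqs r
    refine hMR' x ?_
    have h1 : (X.comap q).map L.subtype ≤ L ⊓ M := by
      refine hX _ (sup_le (fun b hb => ⟨⟨b, hBL hb⟩, hBX (mem_map_of_mem q hb), rfl⟩)
        (fun o ho => ⟨⟨o, pCoreOf_le L ho⟩, by
          show q _ ∈ X
          rw [hqO _ ho]; exact one_mem X, rfl⟩)) (lt_of_le_of_ne (map_subtype_le _) fun e => hXtop ?_)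
      refine eq_top_iff.2 fun r _ => ?_
      obtain ⟨y, rfl⟩ := hqs r
      obtain ⟨z, hz, hzy⟩ := e.ge y.2
      rw [← show z = y from Subtype.ext hzy]
      exact hz
    exact (mem_inf.1 (h1 ⟨x, hr, rfl⟩)).2
  have hgenR : ∀ x : L, q x ∉ MR → BR ⊔ cjSub (q x) BR = ⊤ := by
    intro x hxM
    have h1 := hgenL x x.2 fun hm => hxM (hMR' x (mem_inf.1 hm).2)
    set Y := BR ⊔ cjSub (q x) BR
    have h2 : (B ⊔ B.map (MulAut.conj (x : Gm)).toMonoidHom) ⊔ O ≤ (Y.comap q).map L.subtype := by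
      refine sup_le (sup_le (fun b hb => ⟨⟨b, hBL hb⟩, mem_sup_left (mem_map_of_mem q hb), rfl⟩) ?_)
        fun o ho => ⟨⟨o, pCoreOf_le L ho⟩, by
          show q _ ∈ Y
          rw [hqO _ ho]; exact one_mem Y, rfl⟩
      rintro _ ⟨b, hb, rfl⟩
      refine ⟨x * ⟨b, hBL hb⟩ * x⁻¹, ?_, rfl⟩
      show q _ ∈ Y
      rw [map_mul, map_mul, map_inv]
      exact mem_sup_right ⟨q ⟨b, hBL hb⟩, mem_map_of_mem q hb, rfl⟩
    rw [h1] at h2
    refine eq_top_iff.2 fun r _ => ?_
    obtain ⟨y, rfl⟩ := hqs r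
    obtain ⟨z, hz, hzy⟩ := h2 y.2
    rw [← show z = y from Subtype.ext hzy]
    exact hz
  -- a Sylow subgroup of `MR`
  obtain ⟨TR, hTR, hBT⟩ := exists_isSylIn_ge hBRp hBRM
  haveI hcn : (Cfsg.pCore p R).Normal := CfsgLib.Solvable.pCore_normal p R
  set D := Cfsg.pCore p R with hD
  have hDp : IsPGroup p D := CfsgLib.Solvable.pCore_isPGroup p
  have hDM : D ≤ MR := by
    have hsp : IsPGroup p ↥(BR ⊔ D) := hBRp.to_sup_of_normal_right hDp
    by_cases he : BR ⊔ D = ⊤
    · exfalso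
      have hRp : IsPGroup p (⊤ : Subgroup R) := he ▸ hsp
      obtain ⟨y, -, hyN, hyM⟩ := CfsgLib.Transfer.exists_mem_normalizer_not_mem hRp (lt_top_iff_ne_top.2 hMRtop)
      obtain ⟨x, rfl⟩ := hqs y
      refine hMRtop (top_le_iff.1 ((hgenR x hyM).ge.trans (sup_le hBRM ?_)))
      rintro _ ⟨b, hb, rfl⟩
      exact (mem_normalizer_iff.1 hyN b).1 (hBRM hb)
    · exact le_sup_right.trans (hover _ le_sup_left he)
  have hDT : D ≤ TR := by
    have h := hTR.eq_of_le (le_sup_left (b := D)) (sup_le hTR.1 hDM) (hTR.2.1.to_sup_of_normal_right hDp)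
    exact le_sup_right.trans h.le
  have hcore : ∀ a ∈ TR, (∀ r : R, r⁻¹ * a * r ∈ MR) → a ∈ D := by
    intro a ha hall
    haveI : MR.normalCore.Normal := MR.normalCore_normal
    set N := MR.normalCore
    have haN : a ∈ N := fun r => by simpa using hall r⁻¹
    set Q := N ⊓ TR
    by_cases htop : normalizer (Q : Set R) = ⊤
    · exact CfsgLib.Solvable.le_pCore (normalizer_eq_top_iff.1 htop) (hTR.2.1.to_le inf_le_right) ⟨haN, ha⟩
    exfalso
    have hQM : normalizer (Q : Set R) ≤ MR := by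
      refine hover _ (hBT.trans fun s hs => ?_) htop
      refine inf_normalizer_le_normalizer_inf ⟨?_, le_normalizer hs⟩
      rw [normalizer_eq_top]; exact mem_top s
    -- Frattini
    have hfr : N ⊔ normalizer (Q : Set R) = ⊤ := by
      refine eq_top_iff.2 fun r _ => ?_
      have hQs : IsSylIn p N Q := by
        obtain ⟨Q1, hQ1, hQQ1⟩ := exists_isSylIn_ge (hTR.2.1.to_le inf_le_right : IsPGroup p Q)
          (inf_le_left : Q ≤ N)
        obtain ⟨T1, hT1, hQT1⟩ := exists_isSylIn_ge hQ1.2.1 (hQ1.1.trans (MR.normalCore_le))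
        obtain ⟨l, hl, hlT⟩ := hT1.exists_conj hTR
        have h2 : Q1.map (MulAut.conj l).toMonoidHom ≤ Q := by
          rintro _ ⟨x, hx, rfl⟩
          exact ⟨(inferInstance : N.Normal).conj_mem x (hQ1.1 hx) l, hlT ▸ mem_map_of_mem _ (hQT1 hx)⟩
        have h3 : Q = Q1 := eq_of_le_of_card_ge hQQ1 (by
          rw [← CfsgLib.Coprime.card_map_conj (A := Q1) l]; exact card_le_of_le h2)
        rw [h3]; exact hQ1
      have hQ2 : IsSylIn p N (Q.map (MulAut.conj r).toMonoidHom) := by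
        refine ⟨?_, hQs.2.1.map _, by rw [CfsgLib.Coprime.card_map_conj]; exact hQs.2.2⟩
        rintro _ ⟨x, hx, rfl⟩
        exact (inferInstance : N.Normal).conj_mem x hx.1 r
      obtain ⟨l, hl, hle⟩ := hQ2.exists_conj hQs
      have hn : l * r ∈ normalizer (Q : Set R) := by
        rw [CfsgLib.PLocal.mem_normalizer_map_conj, ← CfsgLib.Coprime.map_conj_conj]
        exact hle
      rw [show r = l⁻¹ * (l * r) by group]
      exact mul_mem (mem_sup_left (inv_mem hl)) (mem_sup_right hn)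
    exact hMRtop (top_le_iff.1 (hfr.ge.trans (sup_le MR.normalCore_le hQM)))
  -- the semidirect product
  let Γ := W₀ ⋊[R.subtype] R
  haveI : Finite Γ := Finite.of_equiv _ SemidirectProduct.equivProd.symm
  let il : W₀ →* Γ := SemidirectProduct.inl
  let ir : R →* Γ := SemidirectProduct.inr
  have hirj : Function.Injective ir := SemidirectProduct.inr_injective
  have hilj : Function.Injective il := SemidirectProduct.inl_injective
  have hconj : ∀ (r : R) (v : W₀), ir r * il v * (ir r)⁻¹ = il ((r : MulAut W₀) v) := by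
    intro r v
    rw [← map_inv ir]
    exact (SemidirectProduct.inl_aut r v).symm
  have hcomm : ∀ (r : R) (v : W₀), ir r * il v = il v * ir r ↔ (r : MulAut W₀) v = v := by
    intro r v
    rw [← mul_inv_eq_iff_eq_mul, hconj, hilj.eq_iff]
  have hfixcard : ∀ X : Subgroup R,
      Nat.card ↥(il.range ⊓ centralizer ((X.map ir : Subgroup Γ) : Set Γ)) =
        Nat.card ↥(fixV R.subtype X) := by
    intro X
    rw [← card_map_of_injective (K := fixV R.subtype X) hilj]
    refine congrArg (fun K : Subgroup Γ => Nat.card K) ?_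
    ext y
    constructor
    · rintro ⟨⟨v, rfl⟩, hy⟩
      exact ⟨v, fun r hr => (hcomm r v).1 (mem_centralizer_iff.1 hy (ir r) ⟨r, hr, rfl⟩), rfl⟩
    · rintro ⟨v, hv, rfl⟩
      refine ⟨⟨v, rfl⟩, mem_centralizer_iff.2 ?_⟩
      rintro _ ⟨r, hr, rfl⟩
      exact (hcomm r v).2 (hv r hr)
  -- the action of `B` on `W₀`
  set B₀ : Subgroup Gm := B ⊓ (res.ker.map L.subtype) with hB₀
  have hlift : ∀ X : Subgroup R, X ≤ BR → ∃ X' : Subgroup Gm, X' ≤ B ∧ B₀ ≤ X' ∧
      Nat.card X' = Nat.card B₀ * Nat.card X ∧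
      Nat.card ↥(fixV act X' ⊓ W₀) = Nat.card ↥(fixV R.subtype X) := by
    intro X hXB
    set X1 : Subgroup L := X.comap q ⊓ B.subgroupOf L
    refine ⟨X1.map L.subtype, ?_, ?_, ?_, ?_⟩
    · rintro _ ⟨x, hx, rfl⟩; exact hx.2
    · rintro _ ⟨hb, x, hx, rfl⟩
      refine ⟨x, ⟨?_, hb⟩, rfl⟩
      show q x ∈ X
      rw [show q x = 1 from Subtype.ext (MonoidHom.mem_ker.1 hx)]
      exact one_mem X
    · have h1 := card_mul_index (q.comp X1.subtype).ker
      rw [index_ker] at h1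
      rw [card_map_of_injective L.subtype_injective, ← h1]
      congr 1
      · rw [← card_map_of_injective (K := (q.comp X1.subtype).ker)
          (f := L.subtype.comp X1.subtype) (L.subtype_injective.comp X1.subtype_injective)]
        refine congrArg (fun K : Subgroup Gm => Nat.card K) ?_
        ext y
        constructor
        · rintro ⟨x, hx, rfl⟩
          exact ⟨x.2.2, x.1, MonoidHom.mem_ker.2 (congrArg Subtype.val (MonoidHom.mem_ker.1 hx)), rfl⟩
        · rintro ⟨hy, x, hx, rfl⟩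
          have hx1 : q x = 1 := Subtype.ext (MonoidHom.mem_ker.1 hx)
          exact ⟨⟨x, ⟨show q x ∈ X by rw [hx1]; exact one_mem X, hy⟩⟩, MonoidHom.mem_ker.2 hx1, rfl⟩
      · refine congrArg (fun K : Subgroup R => Nat.card K) ?_
        ext r
        constructor
        · rintro ⟨x, rfl⟩; exact x.2.1
        · intro hr
          obtain ⟨x, hx, rfl⟩ := hXB hr
          exact ⟨⟨x, hr, hx⟩, rfl⟩
    · rw [← card_map_of_injective (K := fixV R.subtype X) W₀.subtype_injective]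
      refine congrArg (fun K : Subgroup V => Nat.card K) ?_
      ext v
      constructor
      · rintro ⟨hv, hvW⟩
        refine ⟨⟨v, hvW⟩, fun r hr => ?_, rfl⟩
        obtain ⟨x, hx, rfl⟩ := hXB hr
        exact Subtype.ext (hv x ⟨x, ⟨hr, hx⟩, rfl⟩)
      · rintro ⟨v, hv, rfl⟩
        refine ⟨?_, v.2⟩
        rintro _ ⟨x, hx, rfl⟩
        exact congrArg Subtype.val (hv (q x) hx.1)
  have hsupfix : ∀ X' : Subgroup Gm, X' ≤ B →
      Nat.card ↥(fixV act X' ⊓ W₀) * Nat.card (fixV act B) ≤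
        Nat.card (fixV act X') * Nat.card ↥(fixV act B ⊓ W₀) := by
    intro X' hX'
    refine (CfsgLib.PLocal.card_mul_le_card_sup_mul_inf _ _).trans (Nat.mul_le_mul ?_ ?_)
    · exact card_le_of_le (sup_le inf_le_left (fixV_anti act hX'))
    · exact card_le_of_le (le_inf inf_le_right (inf_le_left.trans inf_le_right))
  obtain ⟨B', hB'B, hB0B', hB'card, hB'fix⟩ := hlift BR le_rfl
  have hB'eq : B' = B := by
    refine eq_of_le_of_card_ge hB'B ?_
    rw [hB'card]
    have h1 := card_mul_index (q.comp (B.subgroupOf L).subtype).ker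
    rw [index_ker] at h1
    rw [← Nat.card_congr (subgroupOfEquivOfLe hBL).toEquiv, ← h1]
    refine Nat.mul_le_mul ?_ (card_le_of_le ?_)
    · refine Nat.card_le_card_of_injective (fun x => (⟨x.1.1.1, x.1.2, x.1.1,
        MonoidHom.mem_ker.2 (congrArg Subtype.val (MonoidHom.mem_ker.1 x.2)), rfl⟩ : B₀)) fun x y e =>
        Subtype.ext (Subtype.ext (Subtype.ext (congrArg (fun z : B₀ => (z : Gm)) e)))
    · rintro _ ⟨x, rfl⟩; exact mem_map_of_mem q x.2
  rw [hB'eq] at hB'card hB'fix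
  have hBR1 : BR ≠ ⊥ := by
    intro e
    obtain ⟨x, hx, hxM⟩ := SetLike.exists_of_lt hLM
    have hxR : q ⟨x, hx⟩ ∉ MR := fun h => hxM (mem_inf.2 ⟨hx, hqM _ h⟩)
    have h := hgenR _ hxR
    rw [e, show cjSub (q ⟨x, hx⟩) (⊥ : Subgroup R) = ⊥ from Subgroup.map_bot _, sup_idem] at h
    exact hxR (by rw [mem_bot.1 (h.ge (mem_top (q ⟨x, hx⟩)))]; exact one_mem MR)
  have hgeR : Nat.card W₀ ≤ Nat.card BR * Nat.card (fixV R.subtype BR) := by
    by_cases h0 : B₀ = ⊥
    · rw [h0, Subgroup.card_bot, one_mul] at hB'card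
      rw [← hB'card, ← hB'fix]
      refine Nat.le_of_mul_le_mul_left ?_ (Nat.card_pos (α := fixV act B))
      calc Nat.card (fixV act B) * Nat.card W₀ ≤ Nat.card V * Nat.card ↥(fixV act B ⊓ W₀) :=
            (CfsgLib.PLocal.card_mul_le_card_sup_mul_inf _ _).trans
              (Nat.mul_le_mul_right _ (card_le_card_group _))
        _ ≤ Nat.card B * Nat.card (fixV act B) * Nat.card ↥(fixV act B ⊓ W₀) := Nat.mul_le_mul_right _ hBoff
        _ = _ := by ring
    · have hne : B₀ ≠ B := fun e => hBR1 (by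
        rw [e] at hB'card
        exact card_eq_one.1 (Nat.eq_of_mul_eq_mul_left (Nat.card_pos (α := B)) (by rw [← hB'card, mul_one])))
      have h1 := hBstrict B₀ inf_le_left h0 hne
      have hW : W₀ ≤ fixV act B₀ := fun v hv x hx => by
        obtain ⟨-, y, hy, rfl⟩ := hx
        exact congrArg Subtype.val (DFunLike.congr_fun (MonoidHom.mem_ker.1 hy) ⟨v, hv⟩)
      have h2 := hsupfix B₀ inf_le_left
      rw [inf_eq_right.2 hW] at h2
      rw [← hB'fix]
      refine Nat.le_of_mul_le_mul_left ?_ (Nat.mul_pos (Nat.card_pos (α := B₀)) (Nat.card_pos (α := fixV act B)))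
      calc Nat.card B₀ * Nat.card (fixV act B) * Nat.card W₀
          = Nat.card B₀ * (Nat.card W₀ * Nat.card (fixV act B)) := by ring
        _ ≤ Nat.card B₀ * (Nat.card (fixV act B₀) * Nat.card ↥(fixV act B ⊓ W₀)) := Nat.mul_le_mul_left _ h2
        _ = Nat.card B₀ * Nat.card (fixV act B₀) * Nat.card ↥(fixV act B ⊓ W₀) := by ring
        _ ≤ Nat.card B * Nat.card (fixV act B) * Nat.card ↥(fixV act B ⊓ W₀) :=
            Nat.mul_le_mul_right _ (h1.le.trans hBoff)
        _ = _ := by rw [hB'card]; ring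
  have hstrictR : ∀ X : Subgroup R, X ≤ BR → X ≠ ⊥ → X ≠ BR →
      Nat.card X * Nat.card (fixV R.subtype X) < Nat.card BR * Nat.card (fixV R.subtype BR) := by
    intro X hXB hX1 hXne
    obtain ⟨X', hX'B, hB0X, hX'card, hX'fix⟩ := hlift X hXB
    have hB0pos : 0 < Nat.card B₀ := Nat.card_pos
    have hne' : X' ≠ B := fun e => hXne (eq_of_le_of_card_ge hXB (by
      rw [e, hB'card] at hX'card
      exact (Nat.eq_of_mul_eq_mul_left hB0pos hX'card).le))
    have hne1 : X' ≠ ⊥ := fun e => hX1 (card_eq_one.1 (by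
      rw [e, Subgroup.card_bot] at hX'card
      exact Nat.eq_one_of_mul_eq_one_left hX'card.symm))
    have h1 := hBstrict X' hX'B hne1 hne'
    have h2 := hsupfix X' hX'B
    rw [← hX'fix, ← hB'fix]
    refine Nat.lt_of_mul_lt_mul_left (a := Nat.card B₀ * Nat.card (fixV act B)) ?_
    calc Nat.card B₀ * Nat.card (fixV act B) * (Nat.card X * Nat.card ↥(fixV act X' ⊓ W₀))
        = Nat.card X' * (Nat.card ↥(fixV act X' ⊓ W₀) * Nat.card (fixV act B)) := by rw [hX'card]; ring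
      _ ≤ Nat.card X' * (Nat.card (fixV act X') * Nat.card ↥(fixV act B ⊓ W₀)) := Nat.mul_le_mul_left _ h2
      _ = Nat.card X' * Nat.card (fixV act X') * Nat.card ↥(fixV act B ⊓ W₀) := by ring
      _ < Nat.card B * Nat.card (fixV act B) * Nat.card ↥(fixV act B ⊓ W₀) :=
          Nat.mul_lt_mul_of_pos_right (h1.trans_le hBoff) Nat.card_pos
      _ = _ := by rw [hB'card]; ring
  -- the offender generating the image
  have hBRS : ∀ r ∈ BR, ∀ r' ∈ BR, r * r' = r' * r := by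
    rintro _ ⟨x, hx, rfl⟩ _ ⟨y, hy, rfl⟩
    obtain ⟨a, ha, hax⟩ := hx
    obtain ⟨b, hb, hby⟩ := hy
    rw [← map_mul, ← map_mul]
    refine congrArg q (Subtype.ext ?_)
    rw [Subgroup.coe_mul, Subgroup.coe_mul]
    rw [show (x : Gm) = MulAut.conj g a from hax.symm, show (y : Gm) = MulAut.conj g b from hby.symm,
      ← map_mul, ← map_mul, hA₀c a (hAA ha) b (hAA hb)]
  have hBRp' : ∀ r ∈ BR, r ^ p = 1 := by
    rintro _ ⟨x, hx, rfl⟩
    obtain ⟨a, ha, hax⟩ := hx
    rw [← map_pow, show x ^ p = 1 from Subtype.ext ?_, map_one]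
    rw [SubmonoidClass.coe_pow, show (x : Gm) = MulAut.conj g a from hax.symm, ← map_pow, hA₀p a (hAA ha),
      map_one, OneMemClass.coe_one]
  have hTfix : ∀ r ∈ MR, ∀ v : W₀, (v : V) ∈ T → (((r : MulAut W₀) v : W₀) : V) ∈ T := by
    rintro _ ⟨x, hx, rfl⟩ v hv
    exact hMT x (mem_inf.1 hx).2 _ hv
  have hTRfix : ∀ r ∈ TR, ∀ v : W₀, (v : V) ∈ T → (r : MulAut W₀) v = v := by
    intro r hr v hv
    have hrp : IsPGroup p (zpowers r) := hTR.2.1.to_le (zpowers_le.2 hr)
    obtain ⟨x, rfl⟩ := hqs r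
    have hxM := hqM x (hTR.1 hr)
    -- a preimage of `p`-power order
    obtain ⟨k, hk⟩ := hrp ⟨q x, mem_zpowers _⟩
    have hk' : q x ^ p ^ k = 1 := congrArg Subtype.val hk
    obtain ⟨m, hm, hm'⟩ : ∃ m, m.Coprime p ∧ orderOf x ∣ p ^ (orderOf x).factorization p * m := by
      refine ⟨orderOf x / p ^ (orderOf x).factorization p, ?_, ?_⟩
      · exact Nat.Coprime.symm (Nat.coprime_ordCompl (Fact.out : p.Prime) (orderOf_pos x).ne')
      · rw [Nat.ordProj_mul_ordCompl_eq_self]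
    have hyp : IsPGroup p (zpowers ((x : Gm) ^ m)) := by
      have h1 : ((x : Gm) ^ m) ^ p ^ (orderOf x).factorization p = 1 := by
        rw [← pow_mul, mul_comm]
        exact congrArg Subtype.val (orderOf_dvd_iff_pow_eq_one.1 hm')
      obtain ⟨j, -, hj⟩ := (Nat.dvd_prime_pow (Fact.out : p.Prime)).1 (orderOf_dvd_of_pow_eq_one h1)
      exact IsPGroup.of_card ((Nat.card_zpowers _).trans hj)
    have hym : (x : Gm) ^ m ∈ M := M.pow_mem hxM m
    have h2 := fix_of_pGroup act S hSM hTS hMT (zpowers_le.2 hym) hyp hv _ (mem_zpowers _)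
    have h3 : ((q x : R) : MulAut W₀) ^ m ∈ MulAction.stabilizer (MulAut W₀) v := Subtype.ext (by
      rw [← SubmonoidClass.coe_pow, ← map_pow]
      show act ((x ^ m : L) : Gm) (v : V) = v
      rw [SubmonoidClass.coe_pow]; exact h2)
    have h4 : ((q x : R) : MulAut W₀) ^ p ^ k ∈ MulAction.stabilizer (MulAut W₀) v := by
      rw [← SubmonoidClass.coe_pow, hk']; exact one_mem _
    have h5 : ((q x : R) : MulAut W₀) ∈ MulAction.stabilizer (MulAut W₀) v := by
      have hb := Nat.gcd_eq_gcd_ab m (p ^ k)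
      rw [(Nat.Coprime.pow_right k hm).gcd_eq_one] at hb
      have h6 := mul_mem (zpow_mem h3 (m.gcdA (p ^ k))) (zpow_mem h4 (m.gcdB (p ^ k)))
      rwa [← zpow_natCast, ← zpow_natCast, ← zpow_mul, ← zpow_mul, ← zpow_add, ← hb, Nat.cast_one,
        zpow_one] at h6
    exact h5
  obtain ⟨t, htT, htmov⟩ : ∃ t ∈ T, ∃ x : L, act (x : Gm) t ∉ T := by
    obtain ⟨x, hx, hxM⟩ := SetLike.exists_of_lt hLM
    have h : ¬ ∀ t ∈ T, act x t ∈ T := fun h => hxM (mem_inf.2 ⟨hx, (hM x).2 h⟩)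
    push Not at h
    obtain ⟨t, ht, h⟩ := h
    exact ⟨t, ht, ⟨x, hx⟩, h⟩
  obtain ⟨x₀, hx₀⟩ := htmov
  set t₀ : W₀ := ⟨t, hTW htT⟩
  have hoffgen : OffGen p il.range ir.range (BR.map ir) (MR.map ir) (TR.map ir) (D.map ir) := by
    refine ⟨⟨⟨⟨fun a b => Subtype.ext ?_⟩⟩, ?_⟩, ⟨⟨⟨fun a b => Subtype.ext ?_⟩⟩, ?_⟩, ?_, ?_, map_mono hBT,
      map_mono hTR.1, Subgroup.map_le_range _ _, map_mono hDT, ?_, ?_, ?_, ?_, ?_, ?_, ?_, ?_, ?_⟩
    · obtain ⟨a', ha⟩ := a.2
      obtain ⟨b', hb⟩ := b.2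
      rw [Subgroup.coe_mul, Subgroup.coe_mul, ← ha, ← hb, ← map_mul, ← map_mul, mul_comm]
    · rintro _ ⟨v, rfl⟩
      rw [← map_pow, show v ^ p = 1 from Subtype.ext (by rw [SubmonoidClass.coe_pow, hV]; rfl), map_one]
    · obtain ⟨a', ha', ha⟩ := a.2
      obtain ⟨b', hb', hb⟩ := b.2
      rw [Subgroup.coe_mul, Subgroup.coe_mul, ← ha, ← hb, ← map_mul, ← map_mul, hBRS a' ha' b' hb']
    · rintro _ ⟨r, hr, rfl⟩
      rw [← map_pow, hBRp' r hr, map_one]
    · rw [show il.range = (SemidirectProduct.rightHom : Γ →* R).ker from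
        SemidirectProduct.range_inl_eq_ker_rightHom, normalizer_eq_top]
      exact le_top
    · refine eq_bot_iff.2 ?_
      rintro _ ⟨⟨r, rfl⟩, hc⟩
      have hr : r = 1 := Subtype.ext (MulEquiv.ext fun v =>
        (hcomm r v).1 (mem_centralizer_iff.1 hc (il v) ⟨v, rfl⟩).symm)
      rw [hr, map_one]; exact one_mem _
    · rintro _ ⟨r, rfl⟩
      refine mem_normalizer_fintype ?_
      rintro _ ⟨d, hd, rfl⟩
      exact ⟨r * d * r⁻¹, hcn.conj_mem d hd r, by rw [map_mul, map_mul, map_inv]⟩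
    · intro K hK hKn hKp k hk
      obtain ⟨r, rfl⟩ := hK hk
      refine mem_map_of_mem ir (CfsgLib.Solvable.le_pCore (N := K.comap ir) ⟨fun a ha b => ?_⟩
        (hKp.comap_of_injective ir hirj) hk)
      show ir (b * a * b⁻¹) ∈ K
      rw [map_mul, map_mul, map_inv]
      exact (mem_normalizer_iff.1 (hKn ⟨b, rfl⟩) _).1 ha
    · rintro _ ⟨a, ha, rfl⟩ hall
      refine mem_map_of_mem ir (hcore a ha fun r => ?_)
      obtain ⟨m, hm, e⟩ := hall (ir r) ⟨r, rfl⟩
      rw [← map_inv, ← map_mul, ← map_mul] at e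
      exact hirj e ▸ hm
    · rintro _ ⟨a, ha, rfl⟩ hap
      have ha' : a ^ p = 1 := hirj (by rw [map_pow, map_one]; exact hap)
      have hzp : IsPGroup p (zpowers a) := by
        obtain ⟨j, -, hj⟩ := (Nat.dvd_prime_pow (Fact.out : p.Prime)).1
          (orderOf_dvd_of_pow_eq_one (x := a) (n := p ^ 1) (by rw [pow_one, ha']))
        exact IsPGroup.of_card ((Nat.card_zpowers a).trans hj)
      obtain ⟨Q', hQ', hzQ⟩ := exists_isSylIn_ge hzp (zpowers_le.2 ha)
      obtain ⟨l, hl, hlT⟩ := hQ'.exists_conj hTR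
      refine ⟨ir l, mem_map_of_mem ir hl, l * a * l⁻¹, hlT ▸ mem_map_of_mem _ (hzQ (mem_zpowers a)), ?_⟩
      rw [map_mul, map_mul, map_inv]
    · rw [hfixcard, card_map_of_injective hirj, Nat.card_congr
        (MonoidHom.ofInjective hilj).toEquiv.symm]
      exact hgeR
    · intro K hKB hK1 hKne
      have hKeq : (K.comap ir).map ir = K :=
        map_comap_eq_self (hKB.trans (Subgroup.map_le_range _ _))
      rw [← hKeq, hfixcard, hfixcard, card_map_of_injective hirj, card_map_of_injective hirj]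
      refine hstrictR _ (fun r hr => ?_) (fun e => hK1 ?_) (fun e => hKne ?_)
      · obtain ⟨r', hr', e⟩ := hKB hr
        exact hirj e ▸ hr'
      · rw [← hKeq, e, Subgroup.map_bot]
      · rw [← hKeq, e]
    · refine ⟨il t₀, ⟨t₀, rfl⟩, mem_centralizer_iff.2 ?_, fun hc => hx₀ ?_⟩
      · rintro _ ⟨r, hr, rfl⟩
        exact (hcomm r t₀).2 (hTRfix r hr t₀ htT)
      · have h := (hcomm (q x₀) t₀).1 (mem_centralizer_iff.1 hc _ ⟨_, rfl⟩)
        have h' : act (x₀ : Gm) t = t := congrArg Subtype.val h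
        rw [h']; exact htT
    · rintro _ ⟨r, rfl⟩ hnot
      obtain ⟨x, rfl⟩ := hqs r
      have hg' := hgenR x fun h => hnot (mem_map_of_mem ir h)
      rw [MonoidHom.range_eq_map, ← hg', Subgroup.map_sup]
      congr 1
      ext y
      constructor
      · intro hy
        obtain ⟨_, ⟨b, hb, rfl⟩, e⟩ := hy
        exact ⟨q x * b * (q x)⁻¹, ⟨b, hb, rfl⟩, by rw [← e, map_mul, map_mul, map_inv]; rfl⟩
      · rintro ⟨_, ⟨b, hb, rfl⟩, rfl⟩
        exact ⟨ir b, mem_map_of_mem ir hb, by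
          show ir (q x) * ir b * (ir (q x))⁻¹ = ir (q x * b * (q x)⁻¹)
          rw [map_mul, map_mul, map_inv]⟩
    · obtain ⟨x, hx, hxM⟩ := SetLike.exists_of_lt hLM
      exact ⟨ir (q ⟨x, hx⟩), ⟨_, rfl⟩, fun h => hxM (mem_inf.2 ⟨hx, hqM _ (by
        obtain ⟨m, hm, e⟩ := h; exact hirj e ▸ hm)⟩)⟩
  -- the torus
  have htTR : il t₀ ∈ centralizer ((TR.map ir : Subgroup Γ) : Set Γ) := mem_centralizer_iff.2 (by
    rintro _ ⟨r, hr, rfl⟩
    exact (hcomm r t₀).2 (hTRfix r hr t₀ htT))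
  have htP : il t₀ ∉ centralizer ((ir.range : Subgroup Γ) : Set Γ) := fun hc => hx₀ (by
    have h := (hcomm (q x₀) t₀).1 (mem_centralizer_iff.1 hc _ ⟨_, rfl⟩)
    have h' : act (x₀ : Gm) t = t := congrArg Subtype.val h
    rw [h']; exact htT)
  obtain ⟨_, ⟨r, hr, rfl⟩, n, hn, hen, hmov, htrans⟩ := exists_torus hoffgen hp ⟨t₀, rfl⟩ htTR htP
  -- a preimage in the normal closure
  set Nc := normalClosure (A₀ : Set Gm)
  haveI hNn : Nc.Normal := normalClosure_normal
  have hBN : B ≤ Nc := by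
    rintro _ ⟨a, ha, rfl⟩
    exact hNn.conj_mem a (subset_normalClosure (hAA ha)) g
  obtain ⟨x, hx⟩ : ∃ x : L, (x : Gm) ∈ Nc ∧ q x = r := by
    obtain ⟨x₁, hx₁, hx₁M⟩ := SetLike.exists_of_lt hLM
    have h1 := hgenR ⟨x₁, hx₁⟩ fun h => hx₁M (mem_inf.2 ⟨hx₁, hqM _ h⟩)
    have hle : BR ⊔ cjSub (q ⟨x₁, hx₁⟩) BR ≤ (Nc.subgroupOf L).map q := by
      refine sup_le (map_mono fun y hy => hBN hy) ?_
      rintro _ ⟨_, ⟨y, hy, rfl⟩, rfl⟩
      refine ⟨⟨x₁, hx₁⟩ * y * ⟨x₁, hx₁⟩⁻¹, hNn.conj_mem _ (hBN hy) x₁, ?_⟩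
      rw [map_mul, map_mul, map_inv]; rfl
    rw [h1] at hle
    obtain ⟨x, hx, e⟩ := hle (mem_top r)
    exact ⟨x, hx, e⟩
  obtain ⟨hxN, rfl⟩ := hx
  have hxM : (x : Gm) ∈ M := hqM x hr
  have hpow : ∀ (k : ℕ) (v : W₀), ir (q x) ^ k * il v * (ir (q x) ^ k)⁻¹ =
      il ⟨act ((x : Gm) ^ k) v, hinv _ (L.pow_mem x.2 k) v v.2⟩ := fun k v => by
    rw [← map_pow, ← map_pow, hconj]
    refine congrArg il (Subtype.ext ?_)
    show act ((x ^ k : L) : Gm) (v : V) = _
    rw [SubmonoidClass.coe_pow]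
  have hmem : ∀ (k : ℕ) (t : V), t ∈ T → act ((x : Gm) ^ k) t ∈ T := fun k t ht =>
    hMT _ (M.pow_mem hxM k) t ht
  refine ⟨x, hxN, fun t ht => hMT x hxM t ht, ⟨n, hn, fun s hs => ?_⟩, ⟨t, htT, fun e => hmov ?_⟩, ?_⟩
  · have h := hpow n ⟨s, hTW hs⟩
    rw [hen, one_mul, inv_one, mul_one] at h
    exact (congrArg Subtype.val (hilj h)).symm
  · have h := hpow 1 t₀
    rw [pow_one] at h
    rw [h]
    refine congrArg il (Subtype.ext ?_)
    show act ((x : Gm) ^ 1) t = t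
    rw [pow_one, e]
  intro s hs s' hs' hne hne'
  set T₀ : Subgroup Γ := (T.comap W₀.subtype).map il with hT₀
  have hcomE : ∀ v : W₀, ⁅ir (q x), il v⁆ = il (⟨act (x : Gm) v, hinv _ x.2 v v.2⟩ * v⁻¹) := fun v => by
    rw [commutatorElement_def, hconj, map_mul, map_inv]
    rfl
  have h1 : T₀ ≤ il.range ⊓ centralizer ((TR.map ir : Subgroup Γ) : Set Γ) := by
    rintro _ ⟨v, hv, rfl⟩
    refine ⟨⟨v, rfl⟩, mem_centralizer_iff.2 ?_⟩
    rintro _ ⟨r', hr', rfl⟩
    exact (hcomm r' v).2 (hTRfix r' hr' v hv)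
  have h2 : ∀ y ∈ T₀, ir (q x) * y * (ir (q x))⁻¹ ∈ T₀ := by
    rintro _ ⟨v, hv, rfl⟩
    rw [hconj]
    exact mem_map_of_mem il (hTfix _ hr v hv)
  have hne1 : ∀ (v : W₀), act (x : Gm) v * (v : V)⁻¹ ≠ 1 → ⁅ir (q x), il v⁆ ≠ 1 := fun v hv e => hv (by
    rw [hcomE, ← map_one il] at e
    exact congrArg Subtype.val (hilj e))
  obtain ⟨k, hk⟩ := htrans T₀ h1 h2 (il ⟨s, hTW hs⟩) (mem_map_of_mem il hs) (il ⟨s', hTW hs'⟩)
    (mem_map_of_mem il hs') (hne1 _ hne) (hne1 _ hne')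
  rw [hcomE, hcomE, hpow] at hk
  exact ⟨k, congrArg Subtype.val (hilj hk)⟩

end CfsgLib.CentralWeak
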