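import Cfsg.Agent.Lib.Coprime.Action
import Cfsg.Agent.Lib.PLocal.Replace
import Cfsg.Agent.Lib.PLocal.Sylow

/-!
# Abelian normal `p`-subgroups and their quadratic offenders
-/

set_option autoImplicit false
set_option linter.unusedSectionVars false

namespace CfsgLib.CentralWeak

open Subgroup
open scoped commutatorElement

variable {G : Type*} [Group G] {p : ℕ}

/-- The `p`-th powers of the elements of `W`, as a subgroup. -/
def powSub (p : ℕ) (W : Subgroup G) : Subgroup G := closure ((fun x => x ^ p) '' (W : Set G))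

theorem pow_mem_powSub {W : Subgroup G} {x : G} (hx : x ∈ W) : x ^ p ∈ powSub p W :=
  subset_closure ⟨x, hx, rfl⟩

theorem powSub_le (p : ℕ) (W : Subgroup G) : powSub p W ≤ W :=
  (closure_le _).2 (by rintro _ ⟨x, hx, rfl⟩; exact pow_mem hx p)

theorem mem_powSub {W : Subgroup G} (hW : ∀ x ∈ W, ∀ y ∈ W, Commute x y) {z : G} :
    z ∈ powSub p W ↔ ∃ x ∈ W, x ^ p = z := by
  refine ⟨fun hz => ?_, ?_⟩
  · refine closure_induction (fun x hx => ?_) ⟨1, one_mem W, one_pow p⟩ ?_ ?_ hz
    · obtain ⟨w, hw, rfl⟩ := hx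
      exact ⟨w, hw, rfl⟩
    · rintro _ _ _ _ ⟨a, ha, rfl⟩ ⟨c, hc, rfl⟩
      exact ⟨a * c, mul_mem ha hc, (hW a ha c hc).mul_pow p⟩
    · rintro _ _ ⟨a, ha, rfl⟩
      exact ⟨a⁻¹, inv_mem ha, inv_pow a p⟩
  · rintro ⟨x, hx, rfl⟩
    exact pow_mem_powSub hx

theorem powSub_normal (p : ℕ) (W : Subgroup G) [W.Normal] : (powSub p W).Normal := by
  refine ⟨fun n hn g => ?_⟩
  have h1 : powSub p W ≤ (powSub p W).comap (MulAut.conj g).toMonoidHom := (closure_le _).2 (by
    rintro _ ⟨x, hx, rfl⟩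
    show g * x ^ p * g⁻¹ ∈ powSub p W
    rw [← conj_pow]
    exact pow_mem_powSub ((inferInstance : W.Normal).conj_mem x hx g))
  exact h1 hn

theorem commute_of_le {W H : Subgroup G} (hW : ∀ x ∈ W, ∀ y ∈ W, Commute x y) (hH : H ≤ W) :
    ∀ x ∈ H, ∀ y ∈ H, Commute x y := fun x hx y hy => hW x (hH hx) y (hH hy)

/-- Generators modulo the `p`-th powers generate. -/
theorem le_of_le_sup_powSub [Finite G] [Fact p.Prime] {W H : Subgroup G}
    (hW : ∀ x ∈ W, ∀ y ∈ W, Commute x y) (hWp : IsPGroup p W) (hH : H ≤ W)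
    (h : W ≤ H ⊔ powSub p W) : W ≤ H := by
  have hstep : ∀ w ∈ W, ∃ a ∈ H, ∃ v ∈ W, w = a * v ^ p := by
    intro w hw
    have hn : powSub p W ≤ normalizer (H : Set G) := fun x hx => mem_normalizer_iff.2 fun y => by
      constructor
      · intro hy
        rwa [(hW x (powSub_le p W hx) y (hH hy)).eq, mul_inv_cancel_right]
      · intro hy
        have h1 := hW x (powSub_le p W hx) _ (hH hy)
        have h2 : y = x * y * x⁻¹ := by
          have := h1.eq
          calc y = x⁻¹ * ((x * y * x⁻¹) * x) := by group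
            _ = x⁻¹ * (x * (x * y * x⁻¹)) := by rw [this]
            _ = x * y * x⁻¹ := by group
        rwa [h2]
    have hw' := h hw
    rw [← SetLike.mem_coe, coe_mul_of_right_le_normalizer_left H (powSub p W) hn] at hw'
    obtain ⟨a, ha, z, hz, rfl⟩ := hw'
    obtain ⟨v, hv, rfl⟩ := (mem_powSub hW).1 hz
    exact ⟨a, ha, v, hv, rfl⟩
  have hn : ∀ (n : ℕ), ∀ w ∈ W, ∃ a ∈ H, ∃ v ∈ W, w = a * v ^ p ^ n := by
    intro n
    induction n with
    | zero => exact fun w hw => ⟨1, one_mem H, w, hw, by simp⟩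
    | succ n ih =>
      intro w hw
      obtain ⟨a, ha, v, hv, rfl⟩ := ih w hw
      obtain ⟨a', ha', v', hv', rfl⟩ := hstep v hv
      refine ⟨a * a' ^ p ^ n, mul_mem ha (pow_mem ha' _), v', hv', ?_⟩
      rw [(hW a' (hH ha') (v' ^ p) (pow_mem hv' _)).mul_pow, mul_assoc, ← pow_mul, ← pow_succ']
  obtain ⟨m, hm⟩ := IsPGroup.iff_card.1 hWp
  intro w hw
  obtain ⟨a, ha, v, hv, rfl⟩ := hn m w hw
  have hv1 : v ^ p ^ m = 1 := by
    rw [← hm]
    exact congrArg Subtype.val (pow_card_eq_one' (x := (⟨v, hv⟩ : W)))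
  rwa [hv1, mul_one]

/-- An element of order prime to `p` trivial modulo `p`-th powers is trivial. -/
theorem centralizes_of_mod_powSub [Finite G] [Fact p.Prime] {W : Subgroup G} [W.Normal]
    (hW : ∀ x ∈ W, ∀ y ∈ W, Commute x y) (hWp : IsPGroup p W) {x : G}
    (hcop : (orderOf x).Coprime p) (h : ∀ w ∈ W, ⁅w, x⁆ ∈ powSub p W) :
    x ∈ centralizer (W : Set G) := by
  haveI := powSub_normal p W
  have hAW : zpowers x ≤ normalizer (W : Set G) := by rw [normalizer_eq_top]; exact le_top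
  have hc : (Nat.card (zpowers x)).Coprime (Nat.card W) := by
    obtain ⟨m, hm⟩ := IsPGroup.iff_card.1 hWp
    rw [hm, Nat.card_zpowers]
    exact hcop.pow_right m
  have hdec := CfsgLib.Coprime.commutator_sup_centralizer hAW hc (Or.inl inferInstance)
  have hcom : ⁅W, zpowers x⁆ ≤ powSub p W := by
    rw [commutator_le]
    intro w hw y hy
    refine (QuotientGroup.eq_one_iff (N := powSub p W) _).1 ?_
    change QuotientGroup.mk' (powSub p W) ⁅w, y⁆ = 1
    obtain ⟨k, rfl⟩ := mem_zpowers_iff.1 hy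
    rw [map_commutatorElement, map_zpow, commutatorElement_eq_one_iff_mul_comm]
    refine (Commute.zpow_right ?_ k).eq
    show QuotientGroup.mk' (powSub p W) w * QuotientGroup.mk' (powSub p W) x = _
    rw [← commutatorElement_eq_one_iff_mul_comm, ← map_commutatorElement]
    exact (QuotientGroup.eq_one_iff _).2 (h w hw)
  have hle : W ≤ W ⊓ centralizer (zpowers x : Set G) := by
    refine le_of_le_sup_powSub hW hWp inf_le_left ?_
    conv_lhs => rw [← hdec]
    exact sup_le (hcom.trans le_sup_right) le_sup_left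
  exact mem_centralizer_iff.2 fun w hw => (mem_centralizer_iff.1 (hle hw).2 x (mem_zpowers x)).symm

/-- `|B ⊔ D| · |B ⊓ D| ≤` form used for offenders: enlarging by a part of the kernel keeps the fixed points. -/
theorem centralizer_sup_kernel {W B D : Subgroup G} (hD : D ≤ centralizer (W : Set G)) :
    W ⊓ centralizer ((B ⊔ D : Subgroup G) : Set G) = W ⊓ centralizer (B : Set G) := by
  rw [CfsgLib.PLocal.centralizer_sup_eq]
  refine le_antisymm (inf_le_inf_left _ inf_le_left) (le_inf inf_le_left (le_inf inf_le_right ?_))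
  exact inf_le_left.trans (le_centralizer_iff.1 hD)

/-- A commutator that covers modulo the fixed points is trivial, inside a `p`-group. -/
theorem commutator_eq_bot_of_cover [Finite G] [Fact p.Prime] {S W B : Subgroup G} [W.Normal]
    (hS : IsPGroup p S) (hWS : W ≤ S) (hBS : B ≤ S) (hW : ∀ x ∈ W, ∀ y ∈ W, Commute x y)
    (h : W ≤ ⁅W, B⁆ ⊔ (W ⊓ centralizer (B : Set G))) : ⁅W, B⁆ = ⊥ := by
  have hle : ⁅W, B⁆ ≤ W := commutator_le_left W B
  have hiter : ⁅W, B⁆ ≤ ⁅⁅W, B⁆, B⁆ := by
    rw [commutator_le]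
    intro w hw y hy
    have hn : (W ⊓ centralizer (B : Set G)) ≤ normalizer ((⁅W, B⁆ : Subgroup G) : Set G) := by
      intro c hc
      refine mem_normalizer_iff.2 fun z => ?_
      constructor
      · intro hz; rwa [(hW c hc.1 z (hle hz)).eq, mul_inv_cancel_right]
      · intro hz
        have h1 := (hW c hc.1 _ (hle hz)).eq
        have h2 : z = c * z * c⁻¹ := by
          calc z = c⁻¹ * ((c * z * c⁻¹) * c) := by group
            _ = c⁻¹ * (c * (c * z * c⁻¹)) := by rw [h1]
            _ = c * z * c⁻¹ := by group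
        rwa [h2]
    have hw' := h hw
    rw [← SetLike.mem_coe, coe_mul_of_right_le_normalizer_left _ _ hn] at hw'
    obtain ⟨x, hx, c, hc, rfl⟩ := hw'
    have h1 : c * y = y * c := (mem_centralizer_iff.1 hc.2 y hy).symm
    have h2 : ⁅x * c, y⁆ = ⁅x, y⁆ := by
      simp only [commutatorElement_def, mul_inv_rev]
      calc x * c * y * (c⁻¹ * x⁻¹) * y⁻¹ = x * (c * y) * c⁻¹ * x⁻¹ * y⁻¹ := by group
        _ = x * y * x⁻¹ * y⁻¹ := by rw [h1]; group
    rw [h2]
    exact commutator_mem_commutator hx hy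
  haveI : Group.IsNilpotent S := hS.isNilpotent
  obtain ⟨n, hn⟩ : ∃ n, S.lowerCentralSeries n = ⊥ := ⟨_, Subgroup.lowerCentralSeries_eq_bot_of_nilpotencyClass_le le_rfl⟩
  have hk : ∀ k, ⁅W, B⁆ ≤ S.lowerCentralSeries k := by
    intro k
    induction k with
    | zero => exact hle.trans hWS
    | succ k ih =>
      rw [Subgroup.lowerCentralSeries_succ]
      exact hiter.trans (commutator_mono ih hBS)
  exact le_bot_iff.1 ((hk n).trans hn.le)

end CfsgLib.CentralWeak
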