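import Cfsg.Agent.Lib.Amalgam.OffenderSL2Field

/-!
# A torus element normalising the offender, transitive on the moved part of the fixed line
-/

set_option autoImplicit false
set_option linter.unusedSectionVars false

namespace CfsgLib.CentralWeak

open Subgroup Matrix CfsgLib.Amalgam
open scoped commutatorElement MatrixGroups

section SL

variable {F : Type} [Field F]

theorem sl2_exists_mulVec (v : Fin 2 → F) (hv : v ≠ 0) :
    ∃ g : SL(2, F), (g : Matrix (Fin 2) (Fin 2) F).mulVec ![1, 0] = v := by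
  by_cases h0 : v 0 = 0
  · have h1 : v 1 ≠ 0 := fun h1 => hv (funext fun i => by fin_cases i <;> assumption)
    refine ⟨⟨!![v 0, -(v 1)⁻¹; v 1, 0], by rw [det_fin_two_of]; field_simp; ring⟩, ?_⟩
    funext i; fin_cases i <;> simp [Matrix.mulVec, dotProduct, Fin.sum_univ_two]
  · refine ⟨⟨!![v 0, 0; v 1, (v 0)⁻¹], by rw [det_fin_two_of]; field_simp; ring⟩, ?_⟩
    funext i; fin_cases i <;> simp [Matrix.mulVec, dotProduct, Fin.sum_univ_two]

/-- The upper unitriangular element. -/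
def uni (c : F) : SL(2, F) := ⟨!![1, c; 0, 1], by simp [det_fin_two_of]⟩

theorem uni_mulVec (c : F) (w : Fin 2 → F) :
    (uni c : Matrix (Fin 2) (Fin 2) F).mulVec w = ![w 0 + c * w 1, w 1] := by
  funext i; fin_cases i <;> simp [uni, Matrix.mulVec, dotProduct, Fin.sum_univ_two]

theorem eq_uni (M : SL(2, F)) (h : (M : Matrix (Fin 2) (Fin 2) F).mulVec ![1, 0] = ![1, 0]) :
    M = uni ((M : Matrix (Fin 2) (Fin 2) F) 0 1) := by
  have h0 := congrFun h 0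
  have h1 := congrFun h 1
  simp [Matrix.mulVec, dotProduct, Fin.sum_univ_two] at h0 h1
  have hdet := M.2
  rw [det_fin_two, h0, h1, mul_zero, sub_zero, one_mul] at hdet
  refine Subtype.ext (Matrix.ext fun i j => ?_)
  fin_cases i <;> fin_cases j <;> simp [uni, h0, h1, hdet]

/-- The diagonal element. -/
def dia (l : Fˣ) : SL(2, F) := ⟨!![(l : F), 0; 0, ((l⁻¹ : Fˣ) : F)], by simp [det_fin_two_of]⟩

theorem dia_one : dia (1 : Fˣ) = 1 := by
  apply Subtype.ext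
  show (!![((1 : Fˣ) : F), 0; 0, (((1 : Fˣ)⁻¹ : Fˣ) : F)] : Matrix (Fin 2) (Fin 2) F) = 1
  ext i j; fin_cases i <;> fin_cases j <;> simp

theorem dia_pow (l : Fˣ) (n : ℕ) : dia l ^ n = dia (l ^ n) := by
  induction n with
  | zero => rw [pow_zero, pow_zero, dia_one]
  | succ n ih =>
    rw [pow_succ, ih]
    apply Subtype.ext
    show (!![((l ^ n : Fˣ) : F), 0; 0, (((l ^ n)⁻¹ : Fˣ) : F)] : Matrix (Fin 2) (Fin 2) F) *
      !![(l : F), 0; 0, ((l⁻¹ : Fˣ) : F)] = !![((l ^ (n + 1) : Fˣ) : F), 0; 0, (((l ^ (n + 1))⁻¹ : Fˣ) : F)]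
    ext i j; fin_cases i <;> fin_cases j <;>
      simp [Matrix.mul_apply, Fin.sum_univ_two, pow_succ, mul_comm]

theorem dia_uni (l : Fˣ) (c : F) : dia l * uni c = uni ((l : F) * c * (l : F)) * dia l := by
  apply Subtype.ext
  show (!![(l : F), 0; 0, ((l⁻¹ : Fˣ) : F)] : Matrix (Fin 2) (Fin 2) F) * !![1, c; 0, 1] =
    !![1, (l : F) * c * (l : F); 0, 1] * !![(l : F), 0; 0, ((l⁻¹ : Fˣ) : F)]
  ext i j; fin_cases i <;> fin_cases j <;>
    simp [Matrix.mul_apply, Fin.sum_univ_two, mul_assoc]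

theorem sl_mulVec (A B : SL(2, F)) (v : Fin 2 → F) :
    ((A * B : SL(2, F)) : Matrix (Fin 2) (Fin 2) F).mulVec v =
      (A : Matrix (Fin 2) (Fin 2) F).mulVec ((B : Matrix (Fin 2) (Fin 2) F).mulVec v) :=
  (Matrix.mulVec_mulVec v _ _).symm

theorem sl_cancel (A : SL(2, F)) (v : Fin 2 → F) :
    ((A⁻¹ : SL(2, F)) : Matrix (Fin 2) (Fin 2) F).mulVec ((A : Matrix (Fin 2) (Fin 2) F).mulVec v) = v := by
  rw [← sl_mulVec, inv_mul_cancel]
  exact Matrix.one_mulVec v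

theorem sl_cancel' (A : SL(2, F)) (v : Fin 2 → F) :
    (A : Matrix (Fin 2) (Fin 2) F).mulVec (((A⁻¹ : SL(2, F)) : Matrix (Fin 2) (Fin 2) F).mulVec v) = v := by
  rw [← sl_mulVec, mul_inv_cancel]
  exact Matrix.one_mulVec v

theorem dia_mulVec (l : Fˣ) : (dia l : Matrix (Fin 2) (Fin 2) F).mulVec ![1, 0] = (l : F) • ![1, 0] := by
  funext i; fin_cases i <;> simp [dia, Matrix.mulVec, dotProduct, Fin.sum_univ_two]

end SL

variable {G : Type*} [Group G] [Finite G] {p : ℕ} [Fact p.Prime]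

theorem exists_torus {V P A M T D : Subgroup G} (h : OffGen p V P A M T D) (hp : p ≠ 2)
    {t : G} (htV : t ∈ V) (htT : t ∈ centralizer (T : Set G)) (htP : t ∉ centralizer (P : Set G)) :
    ∃ e ∈ M, ∃ n : ℕ, n.Coprime p ∧ e ^ n = 1 ∧ e * t * e⁻¹ ≠ t ∧
      ∀ T₀ : Subgroup G, T₀ ≤ V ⊓ centralizer (T : Set G) → (∀ x ∈ T₀, e * x * e⁻¹ ∈ T₀) →
        ∀ s ∈ T₀, ∀ s' ∈ T₀, ⁅e, s⁆ ≠ 1 → ⁅e, s'⁆ ≠ 1 → ∃ k : ℕ, e ^ k * ⁅e, s⁆ * (e ^ k)⁻¹ = ⁅e, s'⁆ := by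
  classical
  obtain ⟨F, iF, iFt, hcard, hiso, -, hPV, -, ρ, ψ, hρ, hψs, hψk, hact⟩ := h.main
  set Z := V ⊓ centralizer (P : Set G)
  have hρi : Function.Injective ρ := by
    obtain ⟨iso⟩ := hiso
    haveI : Finite SL(2, F) := Finite.of_surjective ρ (MonoidHom.range_eq_top.1 hρ)
    exact (Finite.injective_iff_surjective_of_equiv iso.toEquiv).2 (MonoidHom.range_eq_top.1 hρ)
  -- the action
  let φ : V → Fin 2 → F := fun v => Multiplicative.toAdd (ψ v)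
  have hφ : ∀ (g : P) (v : V) (hw : (g : G) * v * (g : G)⁻¹ ∈ V),
      φ ⟨(g : G) * v * (g : G)⁻¹, hw⟩ = (ρ g : Matrix (Fin 2) (Fin 2) F).mulVec (φ v) := by
    intro g v hw
    obtain ⟨w, hw', he⟩ := hact g v
    rw [← show w = ⟨(g : G) * v * (g : G)⁻¹, hw⟩ from Subtype.ext hw']
    exact he
  have hAP : A ≤ P := h.A_le_P
  have hfixA : ∀ (x : G) (hx : x ∈ V), x ∈ centralizer (T : Set G) → ∀ a : A,
      (ρ ⟨a, hAP a.2⟩ : Matrix (Fin 2) (Fin 2) F).mulVec (φ ⟨x, hx⟩) = φ ⟨x, hx⟩ := by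
    intro x hx hxT a
    have e : (a : G) * x * (a : G)⁻¹ = x := by
      rw [mem_centralizer_iff.1 hxT a (h.hAT a.2), mul_inv_cancel_right]
    rw [← hφ ⟨a, hAP a.2⟩ ⟨x, hx⟩ (h.conjV (hAP a.2) hx)]
    exact congrArg φ (Subtype.ext e)
  set v₀ := φ ⟨t, htV⟩ with hv₀
  have hv₀0 : v₀ ≠ 0 := fun e => htP (((hψk ⟨t, htV⟩).1 (Multiplicative.toAdd.injective e)).2)
  obtain ⟨g, hg⟩ := sl2_exists_mulVec v₀ hv₀0
  -- the image of `A` is the stabilizer
  have hstab : ∀ a : A, ∃ c : F, ρ ⟨a, hAP a.2⟩ = g * uni c * g⁻¹ := by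
    intro a
    refine ⟨((g⁻¹ * ρ ⟨a, hAP a.2⟩ * g : SL(2, F)) : Matrix (Fin 2) (Fin 2) F) 0 1, ?_⟩
    have hfix : ((g⁻¹ * ρ ⟨a, hAP a.2⟩ * g : SL(2, F)) : Matrix (Fin 2) (Fin 2) F).mulVec ![1, 0] = ![1, 0] := by
      rw [sl_mulVec, hg, sl_mulVec, hfixA t htV htT a, ← hv₀, ← hg, sl_cancel]
    rw [← eq_uni _ hfix]
    group
  choose cA hcA using hstab
  have hcAi : Function.Injective cA := fun a a' e => by
    have h1 : ρ ⟨a, hAP a.2⟩ = ρ ⟨a', hAP a'.2⟩ := by rw [hcA, hcA, e]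
    exact Subtype.ext (congrArg (fun x : P => (x : G)) (hρi h1))
  have hcAs : Function.Surjective cA := by
    have hb : Function.Bijective cA := (Nat.bijective_iff_injective_and_card cA).2
      ⟨hcAi, by rw [← hcard, Nat.card_eq_fintype_card]⟩
    exact hb.2
  -- the torus
  obtain ⟨l, hl⟩ := (inferInstance : IsCyclic Fˣ).exists_generator
  obtain ⟨e, he⟩ := MonoidHom.range_eq_top.1 hρ (g * dia l * g⁻¹)
  have hev : (ρ e : Matrix (Fin 2) (Fin 2) F).mulVec v₀ = (l : F) • v₀ := by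
    rw [he, ← hg, sl_mulVec, sl_cancel, sl_mulVec, dia_mulVec, Matrix.mulVec_smul]
  obtain ⟨m, hm⟩ := IsPGroup.iff_card.1 (show IsPGroup p A from fun a => ⟨1, Subtype.ext (by simpa using h.hA.2 a a.2)⟩)
  have hq : Nat.card A = Fintype.card F := hcard.symm
  have hm0 : m ≠ 0 := fun h0 => by
    rw [h0, pow_zero] at hm
    exact absurd (hq.symm.trans hm) (Fintype.one_lt_card.ne')
  have hl1 : (l : F) ≠ 1 := by
    intro h1
    have hl1' : l = 1 := Units.ext h1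
    haveI : Subsingleton Fˣ := ⟨fun a b => by
      obtain ⟨i, hi⟩ := hl a; obtain ⟨j, hj⟩ := hl b
      simp only [hl1', _root_.one_zpow] at hi hj
      rw [← hi, ← hj]⟩
    have hc2 : Fintype.card F = 2 := by
      have := Fintype.card_units F
      rw [Fintype.card_eq_one_iff.2 ⟨1, fun x => Subsingleton.elim _ _⟩] at this
      omega
    rw [hc2] at hq
    rw [hq] at hm
    exact hp ((Nat.prime_dvd_prime_iff_eq (Fact.out : p.Prime) Nat.prime_two).1 (hm ▸ dvd_pow_self p hm0))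
  have hen : e ^ (Fintype.card F - 1) = 1 := hρi (by
    rw [map_pow, he, conj_pow, dia_pow, ← Fintype.card_units, pow_card_eq_one, dia_one, map_one,
      mul_one, mul_inv_cancel])
  have hcop : (Fintype.card F - 1).Coprime p := by
    refine Nat.Coprime.symm ((Fact.out : p.Prime).coprime_iff_not_dvd.2 fun hd => ?_)
    have h1 : p ∣ Fintype.card F := by rw [← hq, hm]; exact dvd_pow_self p hm0
    have h3 := Nat.dvd_sub h1 hd
    rw [show Fintype.card F - (Fintype.card F - 1) = 1 from by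
      have := Fintype.card_pos (α := F); omega] at h3
    exact (Fact.out : p.Prime).one_lt.ne' (Nat.dvd_one.1 h3)
  -- it normalizes `A`
  have heA : ∀ a ∈ A, (e : G) * a * (e : G)⁻¹ ∈ A := by
    intro a ha
    obtain ⟨a', ha'⟩ := hcAs ((l : F) * cA ⟨a, ha⟩ * (l : F))
    have h2 : ρ ⟨a', hAP a'.2⟩ = ρ (e * ⟨a, hAP ha⟩ * e⁻¹) := by
      rw [hcA, ha', map_mul, map_mul, map_inv, he, hcA ⟨a, ha⟩]
      have h3 : uni ((l : F) * cA ⟨a, ha⟩ * (l : F)) = dia l * uni (cA ⟨a, ha⟩) * (dia l)⁻¹ := by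
        rw [eq_mul_inv_iff_mul_eq, dia_uni]
      rw [h3]; group
    have h4 : (a' : G) = (e : G) * a * (e : G)⁻¹ := congrArg (fun x : P => (x : G)) (hρi h2)
    rw [← h4]; exact a'.2
  have heM : (e : G) ∈ M := by
    by_contra hM
    have hle : A ⊔ cjSub (e : G) A ≤ A := sup_le le_rfl (by
      rintro _ ⟨a, ha, rfl⟩; exact heA a ha)
    rw [h.gen _ e.2 hM] at hle
    exact hM ((h.hAT.trans h.hTM) (hle e.2))
  refine ⟨e, heM, Fintype.card F - 1, hcop, by exact_mod_cast congrArg Subtype.val hen, ?_, ?_⟩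
  · intro heq
    have h1 := hφ e ⟨t, htV⟩ (h.conjV e.2 htV)
    rw [hev, show (⟨(e : G) * t * (e : G)⁻¹, h.conjV e.2 htV⟩ : V) = ⟨t, htV⟩ from Subtype.ext heq,
      ← hv₀] at h1
    exact hl1 ((smul_left_injective F hv₀0 (show (l : F) • v₀ = (1 : F) • v₀ by rw [one_smul]; exact h1.symm)))
  intro T₀ hT₀ heT₀ s hs s' hs' hne hne'
  -- fixed vectors are multiples of `v₀`
  have hline : ∀ (x : G) (hx : x ∈ V), x ∈ centralizer (T : Set G) → ∃ c : F, φ ⟨x, hx⟩ = c • v₀ := by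
    intro x hx hxT
    obtain ⟨a1, ha1⟩ := hcAs 1
    have h1 := hfixA x hx hxT a1
    rw [hcA, ha1, sl_mulVec, sl_mulVec] at h1
    set w := (↑g⁻¹ : Matrix (Fin 2) (Fin 2) F).mulVec (φ ⟨x, hx⟩) with hw
    have hback : (g : Matrix (Fin 2) (Fin 2) F).mulVec w = φ ⟨x, hx⟩ := by
      rw [hw, sl_cancel']
    have h2 : (uni (1 : F) : Matrix (Fin 2) (Fin 2) F).mulVec w = w := by
      have := congrArg ((↑g⁻¹ : Matrix (Fin 2) (Fin 2) F).mulVec) h1
      rw [sl_cancel] at this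
      exact this
    have h3 := congrFun h2 0
    rw [uni_mulVec] at h3
    simp at h3
    refine ⟨w 0, ?_⟩
    rw [← hback, ← hg, ← Matrix.mulVec_smul]
    congr 1
    funext i; fin_cases i <;> simp [h3]
  have hcomm : ∀ x ∈ T₀, ∀ y ∈ T₀, ⁅(e : G), x * y⁆ = ⁅(e : G), x⁆ * ⁅(e : G), y⁆ := by
    intro x hx y hy
    have e1 : ⁅(e : G), x * y⁆ = ⁅(e : G), x⁆ * (x * ⁅(e : G), y⁆ * x⁻¹) := by
      simp only [commutatorElement_def]; group
    rw [e1, h.commV (hT₀ hx).1 (h.comm_mem_V e.2 (hT₀ hy).1), mul_inv_cancel_right]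
  have hT₀c : ∀ x ∈ T₀, ⁅(e : G), x⁆ ∈ T₀ := fun x hx => by
    rw [commutatorElement_def]; exact mul_mem (heT₀ x hx) (inv_mem hx)
  -- the commutators avoid the fixed points
  have hfree : ∀ x ∈ T₀, ∀ hv : ⁅(e : G), x⁆ ∈ V, φ ⟨_, hv⟩ = 0 → ⁅(e : G), x⁆ = 1 := by
    intro x hx hv h0
    have hz : ⁅(e : G), x⁆ ∈ Z := (hψk ⟨_, hv⟩).1 (Multiplicative.toAdd.injective h0)
    set a := ⁅(e : G), x⁆ with ha
    have hea : Commute (e : G) a := mem_centralizer_iff.1 hz.2 e e.2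
    have hk : ∀ k : ℕ, (e : G) ^ k * x * ((e : G) ^ k)⁻¹ = a ^ k * x := by
      intro k
      induction k with
      | zero => simp
      | succ k ih =>
        calc (e : G) ^ (k + 1) * x * ((e : G) ^ (k + 1))⁻¹
            = (e : G) * ((e : G) ^ k * x * ((e : G) ^ k)⁻¹) * (e : G)⁻¹ := by rw [pow_succ']; group
          _ = ((e : G) * a ^ k * (e : G)⁻¹) * ((e : G) * x * (e : G)⁻¹) := by rw [ih]; group
          _ = a ^ k * (a * x) := by
              rw [(hea.pow_right k).eq, mul_inv_cancel_right, ha, commutatorElement_def, inv_mul_cancel_right]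
          _ = a ^ (k + 1) * x := by rw [pow_succ, mul_assoc]
    have h1 := hk (Fintype.card F - 1)
    rw [show (e : G) ^ (Fintype.card F - 1) = 1 by exact_mod_cast congrArg Subtype.val hen, one_mul,
      inv_one, mul_one, right_eq_mul] at h1
    exact orderOf_eq_one_iff.1 (Nat.eq_one_of_dvd_coprimes hcop (orderOf_dvd_of_pow_eq_one h1)
      (orderOf_dvd_of_pow_eq_one (h.hV.2 a hz.1)))
  set a := ⁅(e : G), s⁆
  set b := ⁅(e : G), s'⁆
  have haT := hT₀c s hs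
  have hbT := hT₀c s' hs'
  obtain ⟨c, hc⟩ := hline a (hT₀ haT).1 (hT₀ haT).2
  obtain ⟨d, hd⟩ := hline b (hT₀ hbT).1 (hT₀ hbT).2
  have hc0 : c ≠ 0 := fun e0 => hne (hfree s hs _ (by rw [hc, e0, zero_smul]))
  have hd0 : d ≠ 0 := fun e0 => hne' (hfree s' hs' _ (by rw [hd, e0, zero_smul]))
  obtain ⟨k, hk⟩ : ∃ k : ℕ, l ^ k = Units.mk0 (d / c) (div_ne_zero hd0 hc0) :=
    mem_powers_iff_mem_zpowers.2 (hl _)
  refine ⟨k, ?_⟩
  have hpowk : ∀ (k : ℕ) (x : G), x ∈ T₀ → (e : G) ^ k * x * ((e : G) ^ k)⁻¹ ∈ T₀ := by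
    intro k x hx
    induction k with
    | zero => simpa
    | succ k ih => rw [show (e : G) ^ (k + 1) * x * ((e : G) ^ (k + 1))⁻¹ =
        (e : G) * ((e : G) ^ k * x * ((e : G) ^ k)⁻¹) * (e : G)⁻¹ by rw [pow_succ']; group]; exact heT₀ _ ih
  set x' := ((e : G) ^ k * s * ((e : G) ^ k)⁻¹)⁻¹ * s' with hx'
  have hx'T : x' ∈ T₀ := mul_mem (inv_mem (hpowk k s hs)) hs'
  have hb' : (e : G) ^ k * a * ((e : G) ^ k)⁻¹ = ⁅(e : G), (e : G) ^ k * s * ((e : G) ^ k)⁻¹⁆ := by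
    simp only [a, commutatorElement_def]; group
  have hsplit : ⁅(e : G), (e : G) ^ k * s * ((e : G) ^ k)⁻¹⁆ * ⁅(e : G), x'⁆ = b := by
    rw [← hcomm _ (hpowk k s hs) _ hx'T, hx', mul_inv_cancel_left]
  have hvx : ⁅(e : G), x'⁆ ∈ V := (hT₀ (hT₀c x' hx'T)).1
  suffices h0 : ⁅(e : G), x'⁆ = 1 by rw [hb', ← hsplit, h0, mul_one]
  refine hfree x' hx'T hvx ?_
  rw [← hb'] at hsplit
  have hvk : (e : G) ^ k * a * ((e : G) ^ k)⁻¹ ∈ V := h.conjV (P.pow_mem e.2 k) (hT₀ haT).1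
  have h1 : φ ⟨b, (hT₀ hbT).1⟩ = φ ⟨_, hvk⟩ + φ ⟨_, hvx⟩ := by
    rw [← show (⟨_, hvk⟩ : V) * ⟨_, hvx⟩ = ⟨b, (hT₀ hbT).1⟩ from Subtype.ext hsplit]
    exact (congrArg Multiplicative.toAdd (map_mul ψ _ _)).trans (toAdd_mul _ _)
  have h2 : φ ⟨_, hvk⟩ = φ ⟨b, (hT₀ hbT).1⟩ := by
    refine (hφ (e ^ k) ⟨a, (hT₀ haT).1⟩ hvk).trans ?_
    rw [hc, hd, map_pow, Matrix.mulVec_smul]
    have h3 : ∀ j : ℕ, (ρ e ^ j : SL(2, F)).1.mulVec v₀ = ((l : F) ^ j) • v₀ := by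
      intro j
      induction j with
      | zero => simp
      | succ j ih =>
        rw [pow_succ, sl_mulVec, hev, Matrix.mulVec_smul, ih,
          smul_smul, pow_succ']
    rw [h3, smul_smul, ← Units.val_pow_eq_pow_val, hk, Units.val_mk0, mul_div_cancel₀ _ hc0]
  rw [h2] at h1
  exact left_eq_add.1 h1

end CfsgLib.CentralWeak
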